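import Groth.Agent.WeilLib.PowMap
import Groth.Prelude.Def_Frob
import Mathlib.CategoryTheory.Monoidal.Cartesian.Over
import Mathlib.CategoryTheory.Monoidal.Grp
import Mathlib.FieldTheory.Finite.Basic

/-! The Frobenius endomorphism of a group scheme over a finite field. -/

noncomputable section

universe u

set_option linter.style.haveILetI false
set_option backward.isDefEq.respectTransparency false
set_option backward.isDefEq.respectTransparency.types false

open CategoryTheory CategoryTheory.Limits MonoidalCategory CartesianMonoidalCategory MonObj GrpObj AlgebraicGeometry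

namespace Groth.Agent.AVFrobLib

open Groth.Agent

variable (p : ℕ) [Fact p.Prime]

theorem isPowMap_frob (X : Scheme.{u}) [FrobSch.IsCharP X p] : WeilLib.IsPowMap (FrobSch.frob X p) p where
  base _ := rfl
  app U h s := by
    show (X.presheaf.map (homOfLE h).op).hom ((FrobSch.frob X p).app U s) = s ^ p
    rw [FrobSch.frob_app]
    exact congrArg (fun m => m.hom (s ^ p)) (X.presheaf.map_id (Opposite.op U))

/-- The iterates of the absolute Frobenius. -/
def frobIter (X : Scheme.{u}) [FrobSch.IsCharP X p] : ℕ → (X ⟶ X)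
  | 0 => 𝟙 X
  | e + 1 => frobIter X e ≫ FrobSch.frob X p

theorem isPowMap_frobIter (X : Scheme.{u}) [FrobSch.IsCharP X p] :
    ∀ e, WeilLib.IsPowMap (frobIter p X e) (p ^ e)
  | 0 => WeilLib.isPowMap_id
  | e + 1 => by rw [pow_succ]; exact (isPowMap_frobIter X e).comp (isPowMap_frob p X)

theorem frobIter_comp {X Y : Scheme.{u}} [FrobSch.IsCharP X p] [FrobSch.IsCharP Y p] (f : X ⟶ Y) :
    ∀ e, frobIter p X e ≫ f = f ≫ frobIter p Y e
  | 0 => by simp [frobIter]
  | e + 1 => by
    show (frobIter p X e ≫ FrobSch.frob X p) ≫ f = f ≫ frobIter p Y e ≫ FrobSch.frob Y p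
    rw [Category.assoc, FrobSch.frob_comp, ← Category.assoc, frobIter_comp f e, Category.assoc]

theorem frob_spec (R : CommRingCat.{u}) [CharP R p] :
    FrobSch.frob (Spec R) p = Spec.map (CommRingCat.ofHom (frobenius R p)) := by
  apply ext_of_isAffine
  ext s
  show (FrobSch.frob (Spec R) p).appTop s = (Spec.map (CommRingCat.ofHom (frobenius R p))).appTop s
  rw [FrobSch.frob_appTop, ← Iso.hom_inv_id_apply (Scheme.ΓSpecIso R) s, ← map_pow]
  exact congrArg (fun m => m.hom ((Scheme.ΓSpecIso R).hom s)) (Scheme.ΓSpecIso_inv_naturality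
    (CommRingCat.ofHom (frobenius R p)))

theorem frobIter_spec (R : CommRingCat.{u}) [CharP R p] :
    ∀ e, frobIter p (Spec R) e = Spec.map (CommRingCat.ofHom (iterateFrobenius R p e))
  | 0 => by
    show 𝟙 _ = _
    rw [iterateFrobenius_zero]
    exact (Spec.map_id R).symm
  | e + 1 => by
    show frobIter p (Spec R) e ≫ FrobSch.frob (Spec R) p = _
    rw [frobIter_spec R e, frob_spec, ← Spec.map_comp]
    congr 1
    ext x
    show (iterateFrobenius R p e) (frobenius R p x) = iterateFrobenius R p (e + 1) x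
    rw [iterateFrobenius_def, iterateFrobenius_def, frobenius_def, ← pow_mul, pow_succ']

/-- Every group scheme over a finite field has its Frobenius as a homomorphism. -/
theorem exists_frobenius {k : Type u} [Field k] [Finite k] (X : Over (Spec (CommRingCat.of k))) [GrpObj X] :
    ∃ π : X ⟶ X, IsMonHom π ∧ WeilLib.IsPowMap π.left (Nat.card k) := by
  haveI := Fintype.ofFinite k
  obtain ⟨p, hp⟩ := CharP.exists k
  obtain ⟨e, hprime, he⟩ := FiniteField.card k p
  haveI : Fact p.Prime := ⟨hprime⟩
  haveI : CharP (CommRingCat.of k) p := hp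
  haveI hS : ∀ Y : Over (Spec (CommRingCat.of k)), FrobSch.IsCharP Y.left p := fun Y => FrobSch.IsCharP.of_hom Y.hom p
  have hid : frobIter p (Spec (CommRingCat.of k)) e = 𝟙 _ := by
    rw [frobIter_spec, ← Spec.map_id]
    congr 1
    ext x
    show iterateFrobenius k p e x = x
    rw [iterateFrobenius_def, ← he, FiniteField.pow_card]
  let F : ∀ Y : Over (Spec (CommRingCat.of k)), Y ⟶ Y := fun Y => Over.homMk (frobIter p Y.left e) (by
    rw [frobIter_comp, hid, Category.comp_id])
  have hnat : ∀ {Y Z : Over (Spec (CommRingCat.of k))} (f : Y ⟶ Z), F Y ≫ f = f ≫ F Z := fun f =>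
    Over.OverMorphism.ext (frobIter_comp p f.left e)
  have hten : F (X ⊗ X) = F X ⊗ₘ F X := by
    apply CartesianMonoidalCategory.hom_ext
    · rw [tensorHom_fst, hnat]
    · rw [tensorHom_snd, hnat]
  refine ⟨F X, { one_hom := ?_, mul_hom := ?_ }, ?_⟩
  · rw [← hnat, show F (𝟙_ (Over (Spec (CommRingCat.of k)))) = 𝟙 _ from Over.OverMorphism.ext hid, Category.id_comp]
  · rw [← hnat, hten]
  · rw [Nat.card_eq_fintype_card, he]
    exact isPowMap_frobIter p X.left e

end Groth.Agent.AVFrobLib
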