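import Groth.Agent.InvX.Tensor
import Groth.Agent.InvX.GenLocusPull
import Groth.Agent.H23.PicMul
import Groth.Agent.WeilLib.PowMap

/-! The inverse image of an invertible module along a power map. -/

noncomputable section

universe u

set_option backward.isDefEq.respectTransparency false
set_option backward.isDefEq.respectTransparency.types false

open CategoryTheory AlgebraicGeometry TopologicalSpace

namespace Groth.Agent.AVFrobLib

open Groth.Agent Groth.Agent.InvX Groth.Agent.AModX
open scoped Groth.Agent.H23.PicMul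

variable {X : Scheme.{u}} {M : X.Modules}

/-- The tensor powers of a section. -/
def powElt {U : X.Opens} (a : Γ(M, U)) : ∀ n : ℕ, Γ(CohB1.tensorPow M n, U)
  | 0 => (show Γ(Coh.structureModule X, U) from (1 : Γ(X, U)))
  | n + 1 => tmul (powElt a n) a

theorem res_powElt {U V : X.Opens} (h : V ≤ U) (a : Γ(M, U)) :
    ∀ n, res (CohB1.tensorPow M n) h (powElt a n) = powElt (res M h a) n
  | 0 => map_one (resR h)
  | n + 1 => (res_tmul h _ _).trans (by rw [res_powElt h a n]; rfl)

theorem powElt_smul {U : X.Opens} (r : Γ(X, U)) (a : Γ(M, U)) :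
    ∀ n, powElt (r • a) n = r ^ n • powElt a n
  | 0 => by rw [pow_zero, one_smul]; rfl
  | n + 1 => by
    show tmul (powElt (r • a) n) (r • a) = r ^ (n + 1) • tmul (powElt a n) a
    rw [powElt_smul r a n, tmul_smul_left, tmul_smul_right, ← mul_smul, pow_succ]

theorem isFrame_powElt {U : X.Opens} {a : Γ(M, U)} (ha : IsFrame a) : ∀ n, IsFrame (powElt a n)
  | 0 => isFrame_one U
  | n + 1 => isFrame_tmul (isFrame_powElt ha n) ha

variable {F : X ⟶ X} {Q : ℕ}

theorem resR_app (hF : WeilLib.IsPowMap F Q) {W : X.Opens} (k : Γ(X, W)) :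
    resR (hF.le W) ((F.app W).hom k) = k ^ Q := by
  rw [← hF.app W (hF.le W) k]
  rfl

/-- The inverse image along a power map is the tensor power. -/
theorem nonempty_pullback_iso_tensorPow (hF : WeilLib.IsPowMap F Q) (hM : PicF.IsInvertible M) :
    Nonempty ((Scheme.Modules.pullback F).obj M ≅ CohB1.tensorPow M Q) := by
  choose U hxU e he using exists_frame hM
  let P := (Scheme.Modules.pullback F).obj M
  let T := CohB1.tensorPow M Q
  have hcov : ∀ x, ∃ a, x ∈ U a := fun x => ⟨x, hxU x⟩
  let eP : ∀ a, Γ(P, U a) := fun a => res P (hF.le (U a)) (pullElt F (e a))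
  let eT : ∀ a, Γ(T, U a) := fun a => powElt (e a) Q
  have heP : ∀ a, IsFrame (eP a) := fun a => (isFrame_pullElt F (he a)).res _
  have heT : ∀ a, IsFrame (eT a) := fun a => isFrame_powElt (he a) Q
  have key : ∀ (a b : X) (W : X.Opens) (ha : W ≤ U a) (hb : W ≤ U b) (k : Γ(X, W)),
      res M hb (e b) = k • res M ha (e a) →
        res P hb (eP b) = k ^ Q • res P ha (eP a) ∧ res T hb (eT b) = k ^ Q • res T ha (eT a) := by
    intro a b W ha hb k hk
    refine ⟨?_, ?_⟩
    · have h1 := congrArg (pullElt F) hk
      rw [pullElt_smul, ← res_pullElt, ← res_pullElt] at h1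
      have h2 := congrArg (res P (hF.le W)) h1
      rw [res_smul, res_res, res_res, resR_app hF] at h2
      simp only [eP, res_res]
      exact h2
    · show res T hb (powElt (e b) Q) = k ^ Q • res T ha (powElt (e a) Q)
      rw [res_powElt, res_powElt, hk, powElt_smul]
  have hc1 : ∀ (a b : X) (W : X.Opens) (ha : W ≤ U a) (hb : W ≤ U b) (g : Γ(X, W)),
      res P hb (eP b) = g • res P ha (eP a) → res T hb (eT b) = g • res T ha (eT a) := by
    intro a b W ha hb g hg
    obtain ⟨k, hk⟩ := (he a).exists_coord ha (res M hb (e b))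
    obtain ⟨h1, h2⟩ := key a b W ha hb k hk
    rw [h2, (heP a).coord_unique ha (hg.symm.trans h1)]
  have hc2 : ∀ (a b : X) (W : X.Opens) (ha : W ≤ U a) (hb : W ≤ U b) (g : Γ(X, W)),
      res T hb (eT b) = g • res T ha (eT a) → res P hb (eP b) = g • res P ha (eP a) := by
    intro a b W ha hb g hg
    obtain ⟨k, hk⟩ := (he a).exists_coord ha (res M hb (e b))
    obtain ⟨h1, h2⟩ := key a b W ha hb k hk
    rw [h1, (heT a).coord_unique ha (hg.symm.trans h2)]
  exact ⟨{ hom := ofFrames hcov heP hc1
           inv := ofFrames hcov heT hc2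
           hom_inv_id := hom_ext_of_frames U hcov eP heP fun a => by
             show (ofFrames hcov heT hc2).app (U a) ((ofFrames hcov heP hc1).app (U a) (eP a)) = eP a
             rw [ofFrames_app, ofFrames_app]
           inv_hom_id := hom_ext_of_frames U hcov eT heT fun a => by
             show (ofFrames hcov heP hc1).app (U a) ((ofFrames hcov heT hc2).app (U a) (eT a)) = eT a
             rw [ofFrames_app, ofFrames_app] }⟩

/-- The class of the inverse image along a power map. -/
theorem pullCl_powMap (hF : WeilLib.IsPowMap F Q) (hM : PicF.IsInvertible M) :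
    PicF.pullCl F (PicF.cl M) = PicF.cl M ^ Q := by
  rw [← H23.PicMul.cl_tensorPow]
  exact (PicGrp.cl_eq_cl_iff _ _).2 (nonempty_pullback_iso_tensorPow hF hM)

end Groth.Agent.AVFrobLib
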