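import Groth.Agent.AVFrobLib.Exist
import Groth.Agent.WeilLib.ZetaIdentity
import Groth.Agent.AVFrobLib.PowPull
import Groth.Agent.Lib.AbDualBase
import Groth.Agent.H23.RigidGamma
import Groth.Prelude.Def_AgPol

/-! The Frobenius and the polarisation attached to an invertible module. -/

noncomputable section

set_option linter.style.haveILetI false
set_option linter.unusedSectionVars false
set_option backward.isDefEq.respectTransparency false
set_option backward.isDefEq.respectTransparency.types false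
set_option maxHeartbeats 1000000

universe u

open CategoryTheory CategoryTheory.Limits MonoidalCategory CartesianMonoidalCategory AlgebraicGeometry
open scoped MonObj Groth.Agent.H23.PicMul

namespace Groth.Agent.AVFrobLib

open Groth.Agent Groth.Agent.AbDualBase

theorem isPowMap_eq {X : Scheme.{u}} {F G : X ⟶ X} {Q : ℕ} (hF : WeilLib.IsPowMap F Q) (hG : WeilLib.IsPowMap G Q) :
    F = G := by
  have hb : F.base = G.base := by
    ext x
    exact (hF.base x).trans (hG.base x).symm
  refine Scheme.Hom.ext hb fun U => ?_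
  have hU : U = G ⁻¹ᵁ U := TopologicalSpace.Opens.ext (Set.ext fun x => show x ∈ U ↔ G x ∈ U by rw [hG.base x])
  haveI : IsIso (homOfLE hU.le) := ⟨homOfLE hU.ge, rfl, rfl⟩
  rw [← cancel_mono (X.presheaf.map (homOfLE hU.le).op)]
  ext s
  have e1 := hF.app U (hF.le U) s
  have e2 := hG.app U (hG.le U) s
  rw [Scheme.Hom.appLE] at e1 e2
  simp only [CommRingCat.hom_comp, RingHom.comp_apply, Category.assoc, ← X.presheaf.map_comp] at e1 e2 ⊢
  exact e1.trans e2.symm

variable {k : Type u} [Field k] [Finite k] {A At : Over (Spec (CommRingCat.of k))}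
  [GrpObj A] [IsCommMonObj A] [GrpObj At] [IsCommMonObj At]
  [Smooth A.hom] [IsProper A.hom] [GeometricallyConnected A.hom]

/-- A power map of an `S`-scheme induces the power map of its square. -/
theorem isPowMap_square {π : A ⟶ A} (hπ : WeilLib.IsPowMap π.left (Nat.card k)) :
    WeilLib.IsPowMap (AbDual.bcMap π A ≫ PicF.XTmap A.hom π) (Nat.card k) := by
  haveI := Fintype.ofFinite k
  obtain ⟨p, hp⟩ := CharP.exists k
  obtain ⟨e, hprime, he⟩ := FiniteField.card k p
  haveI : Fact p.Prime := ⟨hprime⟩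
  haveI : CharP (CommRingCat.of k) p := hp
  haveI : FrobSch.IsCharP A.left p := FrobSch.IsCharP.of_hom A.hom p
  haveI : FrobSch.IsCharP (PicF.XT A.hom A) p := FrobSch.IsCharP.of_hom (pullback.fst A.hom A.hom ≫ A.hom) p
  rw [Nat.card_eq_fintype_card, he] at hπ ⊢
  have hA : π.left = frobIter p A.left e := isPowMap_eq hπ (isPowMap_frobIter p _ _)
  have hG : AbDual.bcMap π A ≫ PicF.XTmap A.hom π = frobIter p (PicF.XT A.hom A) e := by
    refine pullback.hom_ext ?_ ?_
    · rw [Category.assoc, frobIter_comp, ← hA,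
        show PicF.XTmap A.hom π ≫ pullback.fst A.hom A.hom = pullback.fst A.hom A.hom from
          (pullback.lift_fst _ _ _).trans (Category.comp_id _), bcMap_fst]
    · rw [Category.assoc, frobIter_comp, ← hA,
        show PicF.XTmap A.hom π ≫ pullback.snd A.hom A.hom = pullback.snd A.hom A.hom ≫ π.left from
          pullback.lift_snd _ _ _, ← Category.assoc, bcMap_snd]
  rw [hG]
  exact isPowMap_frobIter p _ _

variable {φ : AgPol.DualMap A At} (hdual : AbDual.IsDualAV Scheme.fppfPrecoverage A At φ)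
include hdual

/-- The Lambda class lies in `Pic⁰`. -/
theorem pz_lambda_pow {L : A.left.Modules} (hL : PicF.IsInvertible L) {N : (PicF.XT A.hom A).Modules}
    (hN : PicF.IsInvertible N)
    (hNL : AgPol.IsLambdaSheaf (μ[A].left : PicF.XT A.hom A ⟶ A.left) (fst A A).left (snd A A).left L N)
    (n : ℕ) : AbDual.IsPicZeroCl A.hom A (PicF.cl N ^ n) := by
  let j : A ⟶ A ⊗ A := lift (𝟙 A) (toUnit A ≫ η[A])
  have hN' : PicF.IsInvertibleCl (PicF.cl (N : (A ⊗ A).left.Modules)) := ⟨N, rfl, hN⟩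
  obtain ⟨Di, hDi, eDi⟩ := H23.PicInv.exists_inverse (PicClLib.isInvertible_pullback η[A].left hL)
  obtain ⟨M, hM, eM⟩ := H23.PicInv.exists_inverse hL
  have hde : PicF.pullCl η[A].left (PicF.cl L) * PicF.cl Di = 1 := (PicGrp.cl_eq_cl_iff _ _).2 eDi
  have hm : PicF.cl L * PicF.cl M = 1 := (PicGrp.cl_eq_cl_iff _ _).2 eM
  have hslice : PicF.pullCl j.left (PicF.cl N) = PicF.pullCl A.hom (PicF.cl Di) := by
    have e : (PicF.cl N : PicF.Cl (A ⊗ A).left) * PicF.pullCl (fst A A).left (PicF.cl L) *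
        PicF.pullCl (snd A A).left (PicF.cl L) = PicF.pullCl μ[A].left (PicF.cl L) :=
      (PicGrp.cl_eq_cl_iff _ _).2 hNL
    have e' := congrArg (PicF.pullCl j.left) e
    rw [H23.PicMul.pullCl_mul, H23.PicMul.pullCl_mul, PicClLib.pullCl_comp, PicClLib.pullCl_comp,
      PicClLib.pullCl_comp, ← Over.comp_left, ← Over.comp_left, ← Over.comp_left, lift_fst, lift_snd,
      show j ≫ μ[A] = 𝟙 A by
        rw [show j ≫ μ[A] = (𝟙 A : A ⟶ A) * (toUnit A ≫ η[A]) from rfl, show toUnit A ≫ η[A] = (1 : A ⟶ A) from rfl,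
          _root_.mul_one], Over.id_left,
      PicClLib.pullCl_id, Over.comp_left, show (toUnit A).left = A.hom from rfl, ← PicClLib.pullCl_comp] at e'
    have e'' := congrArg (fun z => PicF.pullCl A.hom (PicF.cl Di) * (z * PicF.cl M)) e'
    simp only [hm, _root_.mul_one] at e''
    rw [← e'']
    calc PicF.pullCl j.left (PicF.cl N)
        = PicF.pullCl j.left (PicF.cl N) * (PicF.cl L * PicF.cl M) *
            (PicF.pullCl A.hom (PicF.pullCl η[A].left (PicF.cl L)) * PicF.pullCl A.hom (PicF.cl Di)) := by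
          rw [← H23.PicMul.pullCl_mul, hde, pullCl_one', hm, _root_.mul_one, _root_.mul_one]
      _ = _ := by simp only [mul_comm, mul_left_comm, _root_.mul_assoc]
  refine pz_of_slice (c := (PicF.cl N : PicF.Cl (A ⊗ A).left) ^ n) (n := PicF.cl Di ^ n) η[A]
    ⟨_, H23.PicMul.cl_tensorPow _ n, InvX.isInvertible_tensorPow hN n⟩
    ⟨_, H23.PicMul.cl_tensorPow _ n, InvX.isInvertible_tensorPow hDi n⟩ ?_
  show H23.PicMul.pullHom j.left (_ ^ n) = H23.PicMul.pullHom A.hom (_ ^ n)
  rw [map_pow, map_pow]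
  exact congrArg (· ^ n) hslice

theorem phi_pow {T : Over (Spec (CommRingCat.of k))} {c : PicF.Cl (PicF.XT A.hom T)}
    (hc : ∀ n : ℕ, AbDual.IsPicZeroCl A.hom T (c ^ n)) : ∀ n : ℕ, φ T (c ^ n) = φ T c ^ n
  | 0 => by rw [pow_zero, pow_zero, phi_one hdual]
  | n + 1 => by rw [pow_succ, phi_mul hdual (hc n) (pow_one c ▸ hc 1), phi_pow hc n, pow_succ]

/-- `π ≫ λ_L ≫ π^t = q • λ_L`. -/
theorem comp_lambda_transpose {π : A ⟶ A} (hπ : WeilLib.IsPowMap π.left (Nat.card k)) {πt : At ⟶ At}
    (hπt : AbDual.IsTranspose π φ φ πt) {L : A.left.Modules} (hL : PicF.IsInvertible L) {lam : A ⟶ At}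
    (hlam : AgPol.IsLambda A At φ L lam) : π ≫ lam ≫ πt = lam ^ Nat.card k := by
  obtain ⟨N, hN, hNL, rfl⟩ := hlam
  have hpz : AbDual.IsPicZeroCl A.hom A (PicF.cl N) := by
    have h := pz_lambda_pow hdual hL hN hNL 1
    rwa [pow_one] at h
  rw [← Category.assoc, ← hdual.relPic.natural _ _ π _ hpz, ← hπt A _ (pz_xtMap π hpz), PicClLib.pullCl_comp,
    pullCl_powMap (isPowMap_square hπ) hN, phi_pow hdual (pz_lambda_pow hdual hL hN hNL) _]

end Groth.Agent.AVFrobLib
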