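import Groth.Agent.AVCharpoly.Apply
import Groth.Agent.AVSubLib.PtsDegree
import Groth.Agent.AVSubLib.Torsion
import Groth.Agent.ZetaLib.FixScheme
import Groth.Agent.ZetaLib.PointsOfExt
import Mathlib.RingTheory.Artinian.Ring

/-! Rational points of an abelian variety over a finite field and the degree of `1 - π^n`. -/

noncomputable section

set_option linter.style.haveILetI false
set_option linter.unusedSectionVars false
set_option maxHeartbeats 1000000
set_option synthInstance.maxHeartbeats 200000
set_option backward.isDefEq.respectTransparency false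
set_option backward.isDefEq.respectTransparency.types false

universe u

open CategoryTheory CategoryTheory.Limits MonoidalCategory CartesianMonoidalCategory MonObj GrpObj AlgebraicGeometry

namespace Groth.Agent.AVFrobLib

open Groth.Agent

/-- A reduced finite algebra over an algebraically closed field has as many points as its degree. -/
theorem card_algHom_eq_finrank_of_isReduced (k C : Type u) [Field k] [IsAlgClosed k] [CommRing C] [Algebra k C]
    [Module.Finite k C] [_root_.IsReduced C] : Nat.card (C →ₐ[k] k) = Module.finrank k C := by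
  classical
  haveI : IsArtinianRing C := isArtinian_of_tower k inferInstance
  letI := Fintype.ofFinite (MaximalSpectrum C)
  let mk : (C →ₐ[k] k) → MaximalSpectrum C := fun χ =>
    ⟨RingHom.ker χ.toRingHom, RingHom.ker_isMaximal_of_surjective χ.toRingHom fun a => ⟨algebraMap k C a, by simp⟩⟩
  have hres : ∀ m : MaximalSpectrum C, Module.finrank k (C ⧸ m.asIdeal) = 1 := fun m => by
    haveI := m.isMaximal
    letI : Field (C ⧸ m.asIdeal) := Ideal.Quotient.field _
    haveI : Algebra.IsAlgebraic k (C ⧸ m.asIdeal) := Algebra.IsAlgebraic.of_finite k _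
    exact ((AlgEquiv.ofBijective (Algebra.ofId k _)
      (IsAlgClosed.algebraMap_bijective_of_isIntegral (k := k))).toLinearEquiv.finrank_eq).symm.trans
      (Module.finrank_self k)
  have hmk : Function.Bijective mk := by
    refine ⟨fun χ₁ χ₂ e => AlgHom.ext fun c => ?_, fun m => ?_⟩
    · have h1 : c - algebraMap k C (χ₁ c) ∈ RingHom.ker χ₁.toRingHom := by rw [RingHom.mem_ker]; simp
      rw [show RingHom.ker χ₁.toRingHom = RingHom.ker χ₂.toRingHom from congrArg MaximalSpectrum.asIdeal e,
        RingHom.mem_ker] at h1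
      change χ₂ (c - algebraMap k C (χ₁ c)) = 0 at h1
      rw [map_sub, AlgHom.commutes, sub_eq_zero] at h1
      exact h1.symm
    · haveI := m.isMaximal
      letI : Field (C ⧸ m.asIdeal) := Ideal.Quotient.field _
      haveI : Algebra.IsAlgebraic k (C ⧸ m.asIdeal) := Algebra.IsAlgebraic.of_finite k _
      let e : k ≃ₐ[k] (C ⧸ m.asIdeal) := AlgEquiv.ofBijective (Algebra.ofId k _)
        (IsAlgClosed.algebraMap_bijective_of_isIntegral (k := k))
      refine ⟨e.symm.toAlgHom.comp (Ideal.Quotient.mkₐ k m.asIdeal), MaximalSpectrum.ext ?_⟩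
      ext c
      show c ∈ RingHom.ker (e.symm.toAlgHom.comp (Ideal.Quotient.mkₐ k m.asIdeal)).toRingHom ↔ _
      rw [RingHom.mem_ker]
      show e.symm (Ideal.Quotient.mk m.asIdeal c) = 0 ↔ _
      rw [map_eq_zero_iff _ e.symm.injective, Ideal.Quotient.eq_zero_iff_mem]
  rw [Nat.card_congr (Equiv.ofBijective mk hmk), Nat.card_eq_fintype_card,
    ((IsArtinianRing.equivPi C).restrictScalars k).toLinearEquiv.finrank_eq, Module.finrank_pi_fintype k,
    Finset.sum_congr rfl fun m _ => hres m]
  simp

variable {K : Type u} [Field K] [IsAlgClosed K]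

local notation "pt₀" => (𝟙_ (Over (Spec (CommRingCat.of K))))

/-- A finite flat homomorphism with reduced kernel has as many kernel points as its degree. -/
theorem card_ker_pts_eq_finrank {X Y : Over (Spec (CommRingCat.of K))} [GrpObj X] [GrpObj Y]
    [IsSeparated Y.hom] (f : X ⟶ Y) [IsMonHom f] [IsFinite f.left] [Flat f.left]
    (hred : ∀ {Z : Scheme.{u}} (a : Z ⟶ X.left) (b : Z ⟶ Spec (CommRingCat.of K)),
      IsPullback a b f.left η[Y].left → IsReduced Z) :
    Nat.card {x : pt₀ ⟶ X // x ≫ f = 1} = Scheme.Hom.finrank f.left (η[Y].left (IsLocalRing.closedPoint K)) := by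
  obtain ⟨N, _, i, _, _, -, hk⟩ := Groth.Agent.GrpSchLib.exists_kernel f
  have hsq : CategoryTheory.IsPullback i.left N.hom f.left η[Y].left := IsPullback.map (Over.forget _) hk
  haveI : IsFinite N.hom := MorphismProperty.of_isPullback (P := @IsFinite) hsq inferInstance
  haveI : Flat N.hom := MorphismProperty.of_isPullback (P := @Flat) hsq inferInstance
  haveI : IsAffine N.left := isAffine_of_isAffineHom N.hom
  haveI : IsReduced N.left := hred _ _ hsq
  let C := Γ(N.left, ⊤)
  haveI : _root_.IsReduced C := inferInstanceAs (_root_.IsReduced Γ(N.left, ⊤))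
  obtain ⟨φ, hφ⟩ := Spec.map_surjective (R := CommRingCat.of K) (S := CommRingCat.of C) (N.left.isoSpec.inv ≫ N.hom)
  letI : Algebra K C := φ.hom.toAlgebra
  have h1 : IsFinite (Spec.map φ) := by rw [hφ]; infer_instance
  have hfin : Module.Finite K C := by rw [IsFinite.SpecMap_iff] at h1; exact h1
  have hrank : Module.finrank K C = Scheme.Hom.finrank f.left (η[Y].left (IsLocalRing.closedPoint K)) := by
    have e1 := Scheme.Hom.finrank_SpecMap_algebraMap K C (IsLocalRing.closedPoint K)
    rw [show CommRingCat.ofHom (algebraMap K C) = φ from rfl, hφ, Scheme.Hom.finrank_comp_left_of_isIso] at e1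
    refine Eq.trans ?_ (Scheme.Hom.finrank_of_isPullback i.left N.hom f.left η[Y].left hsq (IsLocalRing.closedPoint K))
    refine Eq.trans ?_ e1.symm
    rw [Module.rankAtStalk_eq_finrank_of_free]
    rfl
  let toN : {x : pt₀ ⟶ X // x ≫ f = 1} ≃ (pt₀ ⟶ N) :=
    { toFun := fun x => hk.lift x.1 (toUnit _) x.2
      invFun := fun n => ⟨n ≫ i, by rw [Category.assoc, hk.w, ← Category.assoc, toUnit_unique (n ≫ toUnit N) (toUnit _), MonObj.one_eq_one, MonObj.comp_one]⟩
      left_inv := fun x => Subtype.ext (hk.lift_fst _ _ _)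
      right_inv := fun n => hk.hom_ext (hk.lift_fst _ _ _) (toUnit_unique _ _) }
  let toAlg : (pt₀ ⟶ N) ≃ (C →ₐ[K] K) :=
    { toFun := fun t =>
        { (Spec.preimage (t.left ≫ N.left.isoSpec.hom)).hom with
          commutes' := fun r => by
            have h : φ ≫ Spec.preimage (t.left ≫ N.left.isoSpec.hom) = 𝟙 (CommRingCat.of K) := by
              apply Spec.map_injective
              rw [Spec.map_comp, Spec.map_preimage, hφ, Spec.map_id, Category.assoc, Iso.hom_inv_id_assoc]
              exact Over.w t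
            exact congrArg (fun ψ => ψ.hom r) h }
      invFun := fun χ => Over.homMk (Spec.map (CommRingCat.ofHom χ.toRingHom) ≫ N.left.isoSpec.inv) (by
        rw [Category.assoc, ← hφ, ← Spec.map_comp]
        refine Eq.trans (congrArg Spec.map (CommRingCat.hom_ext (RingHom.ext fun r => χ.commutes r) :
          φ ≫ CommRingCat.ofHom χ.toRingHom = 𝟙 (CommRingCat.of K))) ?_
        exact Spec.map_id _)
      left_inv := fun t => by
        apply Over.OverMorphism.ext
        show Spec.map (Spec.preimage (t.left ≫ N.left.isoSpec.hom)) ≫ N.left.isoSpec.inv = t.left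
        rw [Spec.map_preimage, Category.assoc, Iso.hom_inv_id, Category.comp_id]
      right_inv := fun χ => by
        refine AlgHom.ext fun c => ?_
        show (Spec.preimage ((Spec.map (CommRingCat.ofHom χ.toRingHom) ≫ N.left.isoSpec.inv) ≫ N.left.isoSpec.hom)).hom c = χ c
        rw [Category.assoc, Iso.inv_hom_id, Category.comp_id, Spec.preimage_map]
        rfl }
  rw [Nat.card_congr (toN.trans toAlg), ← hrank]
  exact card_algHom_eq_finrank_of_isReduced K C

/-- A homomorphism with finitely many kernel points is injective on Tate modules. -/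
theorem tateMap_injective_of_finite {S : Scheme.{u}} {T A B : Over S} [GrpObj A] [IsCommMonObj A] [GrpObj B]
    [IsCommMonObj B] (f : A ⟶ B) [IsMonHom f] (l : ℕ) [Fact l.Prime] [Finite {x : T ⟶ A // x ≫ f = 1}] :
    Function.Injective (AbDual.tateMapₗ (l := l) (T := T) f) := by
  rw [injective_iff_map_eq_zero]
  intro t ht
  let x : ℕ → (T ⟶ A) := fun n => ((t : ℕ → Additive (T ⟶ A)) n).toMul
  have hker : ∀ n, x n ≫ f = 1 := fun n =>
    congrArg (fun s : AbDual.TateMod B l T => ((s : ℕ → Additive (T ⟶ B)) n).toMul) ht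
  have hstep : ∀ n m, x (n + m) ^ l ^ m = x n := by
    intro n m
    induction m with
    | zero => simp
    | succ m ih =>
      rw [pow_succ', pow_mul, ← ih]
      congr 1
      exact congrArg Additive.toMul (t.compat (n + m))
  have hall : ∀ n, x n = 1 := by
    intro n
    obtain ⟨a', b', hne', hab'⟩ := Finite.exists_ne_map_eq_of_infinite
      (fun m : ℕ => (⟨x (n + m), hker _⟩ : {x : T ⟶ A // x ≫ f = 1}))
    wlog hlt' : a' < b' generalizing a' b'
    · exact this b' a' hne'.symm hab'.symm (by omega)
    have heq' : x (n + a') = x (n + b') := congrArg Subtype.val hab'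
    have hfix' : x (n + a') ^ l ^ (b' - a') = x (n + a') := by
      conv_lhs => rw [heq']
      have := hstep (n + a') (b' - a')
      rwa [show n + a' + (b' - a') = n + b' by omega] at this
    have hrep : ∀ j, x (n + a') ^ (l ^ (b' - a')) ^ j = x (n + a') := fun j => by
      induction j with
      | zero => simp
      | succ j ih => rw [pow_succ, pow_mul, ih, hfix']
    have hle : n + a' ≤ (b' - a') * (n + a') := Nat.le_mul_of_pos_left _ (by omega)
    have h2 := hrep (n + a')
    rw [← pow_mul, ← Nat.add_sub_cancel' hle, pow_add, pow_mul,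
      show x (n + a') ^ l ^ (n + a') = 1 from congrArg Additive.toMul (t.torsion _), one_pow] at h2
    rw [← hstep n a', ← h2, one_pow]
  exact AbDual.TateMod.ext fun n => congrArg Additive.ofMul (hall n)

section Frobenius

attribute [local instance] Functor.grpObjObj

variable {k : Type u} [Field k] [Finite k] {X : Over (Spec (CommRingCat.of k))}
  [GrpObj X] [IsCommMonObj X] [IsProper X.hom] [GeometricallyIntegral X.hom]

theorem isPowMap_pow (φ : EndAV.End X) {Q : ℕ} (h : WeilLib.IsPowMap φ.toHom.left Q) (n : ℕ) :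
    WeilLib.IsPowMap (φ ^ n).toHom.left (Q ^ n) := by
  induction n with
  | zero => exact WeilLib.isPowMap_id
  | succ n ih =>
    rw [EndAV.End.toHom_pow_succ, Over.comp_left, pow_succ]
    exact ih.comp h

/-- The number of rational points over the degree `n` extension is the degree of `1 - π^n`. -/
theorem card_points_eq_degQ (φ : EndAV.End X) (hφ : WeilLib.IsPowMap φ.toHom.left (Nat.card k))
    (k' : Type u) [Field k'] [Algebra k k'] [Finite k'] :
    (Nat.card (Over.mk (Spec.map (CommRingCat.ofHom (algebraMap k k'))) ⟶ X) : ℚ) =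
      AVCharpoly.degQ (1 - φ ^ Module.finrank k k' : EndAV.End X).toHom := by
  classical
  haveI : Module.Finite k k' := Module.Finite.of_finite
  set n := Module.finrank k k' with hn
  have hn0 : 0 < n := Module.finrank_pos
  let Ω := AlgebraicClosure k
  let σ := Spec.map (CommRingCat.ofHom (algebraMap k Ω))
  let A' := (Over.pullback σ).obj X
  haveI : IsProper A'.hom := inferInstanceAs (IsProper (pullback.snd X.hom σ))
  haveI : GeometricallyIntegral A'.hom := inferInstanceAs (GeometricallyIntegral (pullback.snd X.hom σ))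
  haveI : IsCommMonObj A' := isCommMonObj_of_isProper_of_geometricallyIntegral _
  haveI : IsIntegral X.left := GeometricallyIntegral.isIntegral_of_subsingleton X.hom
  haveI : IsIntegral A'.left := GeometricallyIntegral.isIntegral_of_subsingleton A'.hom
  haveI : Smooth A'.hom := S7795.result A'
  let f : X ⟶ X := (1 - φ ^ n : EndAV.End X).toHom
  let G : A' ⟶ A' := (Over.pullback σ).map (φ ^ n).toHom
  let f' : A' ⟶ A' := (Over.pullback σ).map f
  have hf' : f' = 𝟙 A' / G := by
    show (Over.pullback σ).map (1 - φ ^ n : EndAV.End X).toHom = _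
    rw [EndAV.End.toHom_sub, EndAV.End.toHom_one]
    refine (_root_.map_div ((Over.pullback σ).homMonoidHom (X := X) (M := X)) (𝟙 X) (φ ^ n).toHom).trans ?_
    show (Over.pullback σ).map (𝟙 X) / G = _
    rw [CategoryTheory.Functor.map_id]
  have hkey : ∀ {T : Over (Spec (CommRingCat.of Ω))} (x : T ⟶ A'), x ≫ f' = 1 ↔ x ≫ G = x := fun {T} x => by
    rw [hf', div_eq_mul_inv, MonObj.comp_mul, GrpObj.comp_inv, Category.comp_id, ← div_eq_mul_inv, div_eq_one]
    exact eq_comm
  have hsqG := AVCharpoly.isPullback_map σ (φ ^ n).toHom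
  have hsq := AVCharpoly.isPullback_map σ f
  have hGg : G.left ≫ A'.hom = A'.hom := Over.w G
  have hpow : WeilLib.IsPowMap (φ ^ n).toHom.left (Nat.card k ^ n) := isPowMap_pow φ hφ n
  have hpb : IsPullback (pullback.fst X.hom σ) A'.hom X.hom (Spec.map (CommRingCat.ofHom (algebraMap k Ω))) :=
    IsPullback.of_hasPullback X.hom σ
  have hcomm : G.left ≫ pullback.fst X.hom σ = pullback.fst X.hom σ ≫ (φ ^ n).toHom.left := hsqG.w.symm
  -- points of the kernel
  haveI : Finite (Σ x : X.left, WeilLib.PointsOver X.hom (k := Ω) x n) := ZetaLib.finite_sigma_pointsOver X.hom hn0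
  haveI hfinP : Finite {p : Spec (CommRingCat.of Ω) ⟶ A'.left // p ≫ A'.hom = 𝟙 _ ∧ p ≫ G.left = p} :=
    Finite.of_equiv _ (WeilLib.fixedEquiv X.hom hpow hpb hcomm hGg).symm
  let E : {x : 𝟙_ (Over (Spec (CommRingCat.of Ω))) ⟶ A' // x ≫ f' = 1} ≃
      {p : Spec (CommRingCat.of Ω) ⟶ A'.left // p ≫ A'.hom = 𝟙 _ ∧ p ≫ G.left = p} :=
    { toFun := fun x => ⟨x.1.left, Over.w x.1, congrArg CommaMorphism.left ((hkey x.1).1 x.2)⟩
      invFun := fun p => ⟨Over.homMk p.1 p.2.1, (hkey _).2 (Over.OverMorphism.ext p.2.2)⟩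
      left_inv := fun x => rfl
      right_inv := fun p => rfl }
  haveI : Finite {x : 𝟙_ (Over (Spec (CommRingCat.of Ω))) ⟶ A' // x ≫ f' = 1} := Finite.of_equiv _ E.symm
  -- finiteness
  obtain ⟨l, hp, hl⟩ := AVHomForm.exists_prime_ne_zero (k := Ω)
  haveI := hp
  haveI : IsFinite f'.left := AVSubLib.isFinite_of_injective A' l hl A' f' (tateMap_injective_of_finite f' l)
  haveI : Surjective f'.left := H23.Isogeny.surjective_of_isFinite A'.hom A'.hom f'.left (Over.w f') rfl
  haveI : Surjective (pullback.fst X.hom σ) := by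
    haveI : Surjective σ := ⟨fun y => ⟨IsLocalRing.closedPoint Ω, Subsingleton.elim (α := PrimeSpectrum k) _ _⟩⟩
    infer_instance
  haveI : Surjective f.left := ⟨fun y => by
    obtain ⟨y', rfl⟩ := (pullback.fst X.hom σ).surjective y
    obtain ⟨x', rfl⟩ := f'.left.surjective y'
    refine ⟨pullback.fst X.hom σ x', ?_⟩
    show (pullback.fst X.hom σ ≫ f.left) x' = (f'.left ≫ pullback.fst X.hom σ) x'
    rw [hsq.w]
    rfl⟩
  obtain ⟨g, hg⟩ := TorsPtsLib.exists_dim X
  obtain ⟨hff, hflat, hlfp⟩ := AVDegPoly.isFinite_of_surjective hg hg f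
  haveI := hff; haveI := hflat; haveI := hlfp
  haveI : Flat f'.left := MorphismProperty.of_isPullback (P := @Flat) hsq hflat
  -- the kernel is reduced
  have hred : ∀ {Z : Scheme.{u}} (a : Z ⟶ A'.left) (b : Z ⟶ Spec (CommRingCat.of Ω)),
      IsPullback a b f'.left η[A'].left → IsReduced Z := by
    intro Z a b hZ
    obtain ⟨p, hp'⟩ := CharP.exists k
    haveI := Fintype.ofFinite k
    obtain ⟨e, hprime, he⟩ := FiniteField.card k p
    haveI : Fact p.Prime := ⟨hprime⟩
    haveI : CharP Ω p := charP_of_injective_algebraMap (algebraMap k Ω).injective p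
    haveI hW : IsReduced (FinFr.fixScheme A'.hom G.left hGg) := by
      refine ZetaLib.isReduced_fixScheme hGg hpb p ((e : ℕ) * n) (Nat.mul_pos e.pos hn0) ?_
      rw [pow_mul, ← he, ← Nat.card_eq_fintype_card]
      exact WeilLib.isPowLift_of_comm hpow _ hcomm
    have hb : b = a ≫ A'.hom := by
      have h1 := congrArg (· ≫ A'.hom) hZ.w
      simp only [Category.assoc, Over.w f', Over.w η[A']] at h1
      exact ((Category.comp_id b).symm.trans h1.symm)
    let x : Over.mk (a ≫ A'.hom) ⟶ A' := Over.homMk a rfl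
    have hx : x ≫ G = x := (hkey x).1 (Over.OverMorphism.ext (by
      show a ≫ f'.left = (1 : Over.mk (a ≫ A'.hom) ⟶ A').left
      rw [hZ.w, hb]
      rfl))
    let ι₀ : Z ⟶ FinFr.fixScheme A'.hom G.left hGg := pullback.lift a a (by
      apply pullback.hom_ext
      · simp
      · simp only [Category.assoc, pullback.lift_snd, Category.comp_id]
        exact congrArg CommaMorphism.left hx)
    let w : FinFr.fixScheme A'.hom G.left hGg ⟶ A'.left := ZetaLib.incl hGg
    let y : Over.mk (w ≫ A'.hom) ⟶ A' := Over.homMk w rfl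
    have hy : y ≫ f' = 1 := (hkey y).2 (Over.OverMorphism.ext (ZetaLib.incl_comp hGg))
    have hw : w ≫ f'.left = (w ≫ A'.hom) ≫ η[A'].left := congrArg CommaMorphism.left hy
    let j : FinFr.fixScheme A'.hom G.left hGg ⟶ Z := hZ.lift w (w ≫ A'.hom) hw
    haveI : Mono w := inferInstance
    haveI : IsIso ι₀ := ⟨j, hZ.hom_ext
        (by simp only [Category.assoc, j, hZ.lift_fst, Category.id_comp]; exact pullback.lift_fst _ _ _)
        (by simp only [Category.assoc, j, hZ.lift_snd, Category.id_comp]
            rw [← Category.assoc, show ι₀ ≫ w = a from pullback.lift_fst _ _ _, hb]),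
      by
        rw [← cancel_mono w, Category.assoc, show ι₀ ≫ w = a from pullback.lift_fst _ _ _, Category.id_comp]
        exact hZ.lift_fst _ _ _⟩
    exact isReduced_of_isOpenImmersion ι₀
  have hcard := card_ker_pts_eq_finrank f' hred
  have hc : Nat.card {p : Spec (CommRingCat.of Ω) ⟶ A'.left // p ≫ A'.hom = 𝟙 _ ∧ p ≫ G.left = p} = Zeta.nPts X.hom n :=
    @WeilLib.card_fixed_eq_nPts k _ _ X.hom _ Ω _ _ _ A'.left _ _ _ _ n hn0 hpow hpb G.left hcomm hGg hfinP
  rw [Nat.card_congr E, hc] at hcard
  have hpts : Nat.card (Over.mk (Spec.map (CommRingCat.ofHom (algebraMap k k'))) ⟶ X) = Zeta.nPts X.hom n := by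
    rw [hn, ← ZetaLib.pointCount_eq_nPts X.hom k']
    exact Nat.card_congr
      { toFun := fun x => ⟨x.left, Over.w x⟩
        invFun := fun x => Over.homMk x.1 x.2
        left_inv := fun x => rfl
        right_inv := fun x => rfl }
  rw [hpts, hcard, Scheme.Hom.finrank_of_isPullback _ _ _ _ hsq]
  exact AVCharpoly.finrank_eq_degQ f hff _

end Frobenius

end Groth.Agent.AVFrobLib
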