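import Groth.Agent.AVFrobLib.Setup
import Mathlib.Analysis.MeanInequalities

/-! The characteristic polynomial of the Frobenius: packaged facts and the trace bound. -/

noncomputable section

set_option linter.style.haveILetI false
set_option linter.unusedSectionVars false
set_option maxHeartbeats 1000000
set_option synthInstance.maxHeartbeats 200000

universe u v

open CategoryTheory AlgebraicGeometry
open Polynomial
open scoped MonObj

namespace Groth.Agent.AVFrobLib

open Groth.Agent

variable {k : Type u} [Field k] {A : Over (Spec (CommRingCat.of k))}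
  [GrpObj A] [IsCommMonObj A] [IsProper A.hom] [GeometricallyIntegral A.hom]

/-- A polynomial giving the characteristic polynomial on a Tate module is the degree polynomial. -/
theorem degPoly_of_charpoly (Ω : Type u) [Field Ω] [Algebra k Ω] [IsAlgClosed Ω] (l : ℕ) [Fact l.Prime]
    (hl : (l : k) ≠ 0) [Module.Free ℤ_[l] (AbDual.TateMod A l (SGA7.pt Ω))]
    [Module.Finite ℤ_[l] (AbDual.TateMod A l (SGA7.pt Ω))] {g : ℕ} (hg : topologicalKrullDim A.left = g)
    (φ : EndAV.End A) {P : Polynomial ℤ}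
    (hP : (EndAV.End.tateRep l (SGA7.pt Ω) φ).charpoly = P.map (Int.castRingHom ℤ_[l])) :
    P.Monic ∧ P.natDegree = 2 * g ∧ AVCharpoly.IsDegPoly φ (P.map (Int.castRingHom ℚ)) := by
  obtain ⟨Q, hm, hd, hQ, hc⟩ := AVCharpoly.exists_charpoly Ω l hl hg φ
  obtain rfl : P = Q := Polynomial.map_injective _ Int.cast_injective (hP.symm.trans hc)
  exact ⟨hm, hd, hQ⟩

theorem map_ratMap (P : Polynomial ℤ) {L : Type v} [Field L] [CharZero L] :
    (P.map (Int.castRingHom ℚ)).map (algebraMap ℚ L) = P.map (Int.castRingHom L) := by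
  rw [Polynomial.map_map]
  congr 1
  exact Subsingleton.elim _ _

/-- A nonnegative real polynomial has real roots of even multiplicity. -/
theorem even_rootMultiplicity {P : Polynomial ℝ} (hP : P ≠ 0) (h : ∀ x, 0 ≤ P.eval x) (a : ℝ) :
    Even (P.rootMultiplicity a) := by
  obtain ⟨R, hR, hRa⟩ := Polynomial.exists_eq_pow_rootMultiplicity_mul_and_not_dvd P hP a
  set m := P.rootMultiplicity a with hm
  by_contra hodd
  rw [Nat.not_even_iff_odd] at hodd
  have hR0 : R.eval a ≠ 0 := fun h0 => hRa (Polynomial.dvd_iff_isRoot.2 h0)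
  have h1 : ∀ x, a < x → 0 ≤ R.eval x := fun x hx => by
    have := h x
    rw [hR, Polynomial.eval_mul, Polynomial.eval_pow, Polynomial.eval_sub, Polynomial.eval_X, Polynomial.eval_C] at this
    exact nonneg_of_mul_nonneg_right this (pow_pos (sub_pos.2 hx) m)
  have h2 : ∀ x, x < a → R.eval x ≤ 0 := fun x hx => by
    have := h x
    rw [hR, Polynomial.eval_mul, Polynomial.eval_pow, Polynomial.eval_sub, Polynomial.eval_X, Polynomial.eval_C] at this
    nlinarith [hodd.pow_neg (sub_neg.2 hx)]
  have h3 : 0 ≤ R.eval a := by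
    refine ge_of_tendsto (R.continuous.continuousAt.continuousWithinAt (s := Set.Ioi a)) ?_
    exact eventually_nhdsWithin_of_forall h1
  have h4 : R.eval a ≤ 0 := by
    refine le_of_tendsto (R.continuous.continuousAt.continuousWithinAt (s := Set.Iio a)) ?_
    exact eventually_nhdsWithin_of_forall h2
  exact hR0 (le_antisymm h4 h3)

variable [Finite k]

/-- The trace bound by arithmetic and geometric means, with its equality case. -/
theorem trace_key (π : EndAV.End A) (hπ : WeilLib.IsPowMap π.toHom.left (Nat.card k)) {g : ℕ}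
    (hg : topologicalKrullDim A.left = g) {P : Polynomial ℤ} (hPm : P.Monic) (hPd : P.natDegree = 2 * g)
    (hP : AVCharpoly.IsDegPoly π (P.map (Int.castRingHom ℚ))) (ε : ℤ) (hε : ε ^ 2 = 1) :
    -(g : ℝ) * (⌊2 * Real.sqrt (Nat.card k)⌋ : ℝ) ≤ (ε : ℝ) * ((P.map (Int.castRingHom ℂ)).roots.map Complex.re).sum ∧
      ((ε : ℝ) * ((P.map (Int.castRingHom ℂ)).roots.map Complex.re).sum = -(g : ℝ) * (⌊2 * Real.sqrt (Nat.card k)⌋ : ℝ) →
        ∀ w ∈ (P.map (Int.castRingHom ℂ)).roots,
          (⌊2 * Real.sqrt (Nat.card k)⌋ : ℝ) + (ε : ℝ) * (2 * w.re) = 0) := by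
  classical
  set s := (P.map (Int.castRingHom ℂ)).roots with hs
  have hPd' : (P.map (Int.castRingHom ℚ)).natDegree = 2 * g := by rw [hPm.natDegree_map, hPd]
  have hnorm : ∀ w ∈ s, ‖w‖ = Real.sqrt (Nat.card k) := fun w hw =>
    norm_root_degPoly π hπ hg (hPm.map _) hPd' hP (by rw [map_ratMap]; exact hw)
  have hcard : Multiset.card s = 2 * g := by
    rw [hs, ← (IsAlgClosed.splits _).natDegree_eq_card_roots, hPm.natDegree_map, hPd]
  let m : ℤ := ⌊2 * Real.sqrt (Nat.card k)⌋
  have hm : 2 * Real.sqrt (Nat.card k) < (m : ℝ) + 1 := Int.lt_floor_add_one _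
  have hint : ∀ w ∈ s, IsIntegral ℤ w := fun w hw =>
    ⟨P, hPm, by
      rw [Polynomial.mem_roots (hPm.map _).ne_zero, Polynomial.IsRoot, Polynomial.eval_map] at hw
      rwa [Subsingleton.elim (algebraMap ℤ ℂ) (Int.castRingHom ℂ)]⟩
  let x : ℂ → ℝ := fun w => (m : ℝ) + 1 + (ε : ℝ) * (2 * w.re)
  have hxpos : ∀ w ∈ s, 0 < x w := fun w hw => by
    have h1 := Complex.abs_re_le_norm w
    rw [hnorm w hw] at h1
    have h2 : |(ε : ℝ) * (2 * w.re)| ≤ 2 * Real.sqrt (Nat.card k) := by
      rw [abs_mul, abs_mul, show |(ε : ℝ)| = 1 by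
        rcases sq_eq_one_iff.1 hε with h | h <;> simp [h], one_mul, abs_of_pos (two_pos : (0:ℝ) < 2)]
      linarith
    have := neg_abs_le ((ε : ℝ) * (2 * w.re))
    show 0 < (m : ℝ) + 1 + (ε : ℝ) * (2 * w.re)
    linarith
  -- the product is a nonzero integer
  have hx : ∀ w ∈ s, (x w : ℂ) = ((m : ℂ) + 1) + (ε : ℂ) * (w + starRingEnd ℂ w) := fun w _ => by
    show (((m : ℝ) + 1 + (ε : ℝ) * (2 * w.re) : ℝ) : ℂ) = _
    rw [Complex.add_conj]
    push_cast
    ring
  have hconjint : ∀ w ∈ s, IsIntegral ℤ ((x w : ℂ)) := fun w hw => by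
    rw [hx w hw]
    exact (((isIntegral_algebraMap (R := ℤ) (x := m)) : IsIntegral ℤ (m : ℂ)).add isIntegral_one).add
      (((isIntegral_algebraMap (R := ℤ) (x := ε)) : IsIntegral ℤ (ε : ℂ)).mul
      ((hint w hw).add ((hint w hw).map (Complex.conjAe.toAlgHom.restrictScalars ℤ))))
  let F : Polynomial ℤ := (m + 1 : Polynomial ℤ) * Polynomial.X +
    (ε : Polynomial ℤ) * (Polynomial.X ^ 2 + (Nat.card k : Polynomial ℤ))
  have hw0 : ∀ w ∈ s, w ≠ 0 := fun w hw h0 => by
    have := hnorm w hw
    rw [h0, norm_zero] at this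
    exact (Real.sqrt_pos.2 (Nat.cast_pos.2 Nat.card_pos)).ne this
  have hFw : ∀ w ∈ s, Polynomial.aeval w F = w * (x w : ℂ) := fun w hw => by
    have hq : w * starRingEnd ℂ w = (Nat.card k : ℂ) := by
      rw [Complex.mul_conj, Complex.normSq_eq_norm_sq, hnorm w hw, Real.sq_sqrt (Nat.cast_nonneg _)]
      simp
    simp only [F, map_add, map_mul, map_one, map_intCast, map_natCast, map_pow, Polynomial.aeval_X, hx w hw]
    linear_combination -(ε : ℂ) * hq
  have hprodF := AVCharpoly.degQ_aeval (L := ℂ) hg π _ (hPm.map _) hPd' hP F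
  have hprod0 := AVCharpoly.degQ_aeval (L := ℂ) hg π _ (hPm.map _) hPd' hP Polynomial.X
  rw [map_ratMap, ← hs, Multiset.map_congr rfl hFw, Multiset.prod_map_mul, Multiset.map_id'] at hprodF
  rw [map_ratMap, ← hs] at hprod0
  simp only [Polynomial.aeval_X, Multiset.map_id'] at hprod0
  rw [← hprod0] at hprodF
  set a : ℚ := AVCharpoly.degQ (Polynomial.aeval π F).toHom
  set b : ℚ := AVCharpoly.degQ (Polynomial.aeval π (Polynomial.X : Polynomial ℤ)).toHom with hb
  have hb' : (AVCharpoly.degQ π.toHom : ℚ) = b := by rw [hb, Polynomial.aeval_X]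
  have hb0 : b ≠ 0 := by
    intro h0
    rw [← hb', ] at h0
    have : s.prod = 0 := by rw [← hprod0, h0, Rat.cast_zero]
    exact (Multiset.prod_ne_zero (fun h => hw0 0 h rfl)) this
  have hint' : IsIntegral ℤ ((s.map fun w => (x w : ℂ)).prod) :=
    IsIntegral.multiset_prod fun y hy => by
      obtain ⟨w, hw, rfl⟩ := Multiset.mem_map.1 hy
      exact hconjint w hw
  rw [← hb'] at hb0
  have heq : (s.map fun w => (x w : ℂ)).prod = ((a / AVCharpoly.degQ π.toHom : ℚ) : ℂ) := by
    rw [Rat.cast_div, eq_div_iff (by exact_mod_cast hb0), hprodF, mul_comm]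
  rw [heq] at hint'
  obtain ⟨N, hN⟩ := IsIntegrallyClosed.isIntegral_iff.1
    ((isIntegral_algebraMap_iff (algebraMap ℚ ℂ).injective).1 hint')
  have hreal : (s.map x).prod = (N : ℝ) := by
    have : (((s.map x).prod : ℝ) : ℂ) = ((N : ℝ) : ℂ) := by
      rw [show (((s.map x).prod : ℝ) : ℂ) = (s.map fun w => (x w : ℂ)).prod by
        rw [← Complex.ofRealHom_eq_coe, map_multiset_prod, Multiset.map_map]; rfl, heq, ← hN]
      simp
    exact_mod_cast this
  have hpos : 0 < (s.map x).prod := Multiset.prod_pos fun y hy => by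
    obtain ⟨w, hw, rfl⟩ := Multiset.mem_map.1 hy
    exact hxpos w hw
  have h1 : (1 : ℝ) ≤ (s.map x).prod := by
    rw [hreal] at hpos ⊢
    exact_mod_cast (show (1 : ℤ) ≤ N from by exact_mod_cast hpos)
  have hlog : ∀ w ∈ s, Real.log (x w) ≤ x w - 1 := fun w hw => Real.log_le_sub_one_of_pos (hxpos w hw)
  have h3 : 0 ≤ (s.map fun w => Real.log (x w)).sum := by
    have := Real.log_nonneg h1
    rwa [Real.log_multiset_prod fun y hy => (by
      obtain ⟨w, hw, rfl⟩ := Multiset.mem_map.1 hy
      exact (hxpos w hw).ne'), Multiset.map_map] at this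
  have hexp : (s.map x).sum = (2 * g : ℝ) * ((m : ℝ) + 1) + (ε : ℝ) * 2 * (s.map Complex.re).sum := by
    simp only [x, Multiset.sum_map_add, Multiset.map_const', Multiset.sum_replicate, hcard, nsmul_eq_mul,
      Multiset.sum_map_mul_left]
    push_cast
    ring
  have h2 := Multiset.sum_map_le_sum_map _ _ hlog
  rw [Multiset.sum_map_sub, Multiset.map_const', Multiset.sum_replicate, hcard, nsmul_one, hexp] at h2
  push_cast at h2
  refine ⟨by nlinarith, fun heq w hw => ?_⟩
  by_contra hne
  have hx1 : x w ≠ 1 := fun h => hne (by simp only [x] at h; linarith)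
  have h4 := Multiset.sum_lt_sum hlog ⟨w, hw, Real.log_lt_sub_one_of_pos (hxpos w hw) hx1⟩
  rw [Multiset.sum_map_sub, Multiset.map_const', Multiset.sum_replicate, hcard, nsmul_one, hexp] at h4
  push_cast at h4
  nlinarith

theorem sum_re_roots {P : Polynomial ℤ} (hPm : P.Monic) :
    ((P.map (Int.castRingHom ℂ)).roots.map Complex.re).sum = -(P.nextCoeff : ℝ) := by
  set s := (P.map (Int.castRingHom ℂ)).roots with hs
  have h := (IsAlgClosed.splits (P.map (Int.castRingHom ℂ))).nextCoeff_eq_neg_sum_roots_of_monic (hPm.map _)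
  rw [← hs, Polynomial.nextCoeff_map (RingHom.injective_int _), eq_intCast] at h
  have h' := congrArg Complex.re h
  rw [Complex.intCast_re, Complex.neg_re, show (Multiset.sum s).re = (s.map Complex.re).sum from
    map_multiset_sum Complex.reAddGroupHom s] at h'
  linarith

/-- The trace bound. -/
theorem abs_sum_roots_le (π : EndAV.End A) (hπ : WeilLib.IsPowMap π.toHom.left (Nat.card k)) {g : ℕ}
    (hg : topologicalKrullDim A.left = g) {P : Polynomial ℤ} (hPm : P.Monic) (hPd : P.natDegree = 2 * g)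
    (hP : AVCharpoly.IsDegPoly π (P.map (Int.castRingHom ℚ))) :
    |(P.nextCoeff : ℝ)| ≤ (g : ℝ) * (⌊2 * Real.sqrt (Nat.card k)⌋ : ℝ) := by
  have k1 := (trace_key π hπ hg hPm hPd hP 1 (by norm_num)).1
  have k2 := (trace_key π hπ hg hPm hPd hP (-1) (by norm_num)).1
  rw [sum_re_roots hPm] at k1 k2
  push_cast at k1 k2
  rw [abs_le]
  constructor <;> linarith

/-- The equality case of the trace bound. -/
theorem abs_eq_iff (π : EndAV.End A) (hπ : WeilLib.IsPowMap π.toHom.left (Nat.card k)) {g : ℕ}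
    (hg : topologicalKrullDim A.left = g) {P : Polynomial ℤ} (hPm : P.Monic) (hPd : P.natDegree = 2 * g)
    (hP : AVCharpoly.IsDegPoly π (P.map (Int.castRingHom ℚ))) :
    |(P.nextCoeff : ℝ)| = (g : ℝ) * (⌊2 * Real.sqrt (Nat.card k)⌋ : ℝ) ↔
      (P = (X ^ 2 - C ⌊2 * Real.sqrt (Nat.card k)⌋ * X + C (Nat.card k : ℤ)) ^ g ∨
        P = (X ^ 2 + C ⌊2 * Real.sqrt (Nat.card k)⌋ * X + C (Nat.card k : ℤ)) ^ g) := by
  classical
  set m : ℤ := ⌊2 * Real.sqrt (Nat.card k)⌋ with hm
  set q : ℤ := (Nat.card k : ℤ) with hq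
  have hquad : ∀ c : ℤ, (X ^ 2 + C c * X + C q).Monic ∧ (X ^ 2 + C c * X + C q).natDegree = 2 ∧
      (X ^ 2 + C c * X + C q).nextCoeff = c := fun c => by
    have hd : (X ^ 2 + C c * X + C q).natDegree = 2 := by compute_degree!
    refine ⟨?_, hd, ?_⟩
    · show (X ^ 2 + C c * X + C q).leadingCoeff = 1
      rw [Polynomial.leadingCoeff, hd]
      simp [Polynomial.coeff_X, Polynomial.coeff_C, -eq_intCast]
    · rw [Polynomial.nextCoeff_of_natDegree_pos (by omega), hd]
      simp [Polynomial.coeff_X, Polynomial.coeff_C, -eq_intCast]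
  have hneg : (X ^ 2 - C m * X + C q : Polynomial ℤ) = X ^ 2 + C (-m) * X + C q := by
    rw [map_neg, neg_mul, sub_eq_add_neg]
  constructor
  · intro h
    have main : ∀ ε : ℤ, ε ^ 2 = 1 → (ε : ℝ) * (P.nextCoeff : ℝ) = (g : ℝ) * (m : ℝ) →
        P = (X ^ 2 + C (ε * m) * X + C q) ^ g := by
      intro ε hε he
      have k1 := (trace_key π hπ hg hPm hPd hP ε hε).2 (by
        rw [sum_re_roots hPm, ← hm]; linarith)
      set s := (P.map (Int.castRingHom ℂ)).roots with hs
      have hcard : Multiset.card s = 2 * g := by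
        rw [hs, ← (IsAlgClosed.splits _).natDegree_eq_card_roots, hPm.natDegree_map, hPd]
      have hPd' : (P.map (Int.castRingHom ℚ)).natDegree = 2 * g := by rw [hPm.natDegree_map, hPd]
      have hfact : P.map (Int.castRingHom ℂ) = (s.map fun w => X - C w).prod :=
        (IsAlgClosed.splits _).eq_prod_roots_of_monic (hPm.map _)
      have hconj : P.map (Int.castRingHom ℂ) = (s.map fun w => X - C (starRingEnd ℂ w)).prod := by
        have h1 := congrArg (Polynomial.map (starRingEnd ℂ)) hfact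
        rw [Polynomial.map_multiset_prod, Multiset.map_map, Polynomial.map_map,
          Subsingleton.elim ((starRingEnd ℂ).comp (Int.castRingHom ℂ)) (Int.castRingHom ℂ)] at h1
        rw [h1]
        refine congrArg Multiset.prod (Multiset.map_congr rfl fun w _ => ?_)
        simp
      have hsq : P.map (Int.castRingHom ℂ) ^ 2 =
          ((X ^ 2 + C (ε * m) * X + C q : Polynomial ℤ).map (Int.castRingHom ℂ) ^ g) ^ 2 := by
        rw [sq]
        nth_rewrite 1 [hfact]
        rw [hconj, ← Multiset.prod_map_mul, ← pow_mul, mul_comm g 2, ← hcard, ← Multiset.prod_replicate,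
          ← Multiset.map_const']
        refine congrArg Multiset.prod (Multiset.map_congr rfl fun w hw => ?_)
        have h1 := k1 w hw
        have hn : ‖w‖ = Real.sqrt (Nat.card k) :=
          norm_root_degPoly π hπ hg (hPm.map _) hPd' hP (by rw [map_ratMap]; exact hw)
        have hε2 : (ε : ℝ) * (ε : ℝ) = 1 := by exact_mod_cast (sq ε).symm.trans hε
        have hadd : w + starRingEnd ℂ w = -((ε * m : ℤ) : ℂ) := by
          rw [Complex.add_conj]
          have : 2 * w.re = -((ε : ℝ) * (m : ℝ)) := by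
            linear_combination (ε : ℝ) * h1 - (2 * w.re) * hε2
          rw [this]; push_cast; ring
        have hmul : w * starRingEnd ℂ w = ((q : ℤ) : ℂ) := by
          rw [Complex.mul_conj, Complex.normSq_eq_norm_sq, hn, Real.sq_sqrt (Nat.cast_nonneg _), hq]
          simp
        simp only [Polynomial.map_add, Polynomial.map_mul, Polynomial.map_pow, Polynomial.map_X, Polynomial.map_C,
          Int.coe_castRingHom]
        rw [← hmul, show ((ε * m : ℤ) : ℂ) = -(w + starRingEnd ℂ w) by rw [hadd, neg_neg]]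
        simp only [map_neg, map_add, map_mul]
        ring
      rw [← Polynomial.map_pow, ← Polynomial.map_pow, ← Polynomial.map_pow] at hsq
      have h2 := Polynomial.map_injective _ (RingHom.injective_int _) hsq
      rcases eq_or_eq_neg_of_sq_eq_sq _ _ h2 with h3 | h3
      · exact h3
      · exfalso
        have := congrArg Polynomial.leadingCoeff h3
        rw [hPm.leadingCoeff, Polynomial.leadingCoeff_neg, ((hquad _).1.pow g).leadingCoeff] at this
        norm_num at this
    rcases abs_choice (P.nextCoeff : ℝ) with h1 | h1 <;> rw [h1] at h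
    · right
      have := main 1 (by norm_num) (by push_cast; linarith)
      rwa [one_mul] at this
    · left
      have := main (-1) (by norm_num) (by push_cast; linarith)
      rw [hneg]
      rwa [neg_one_mul] at this
  · have hg0 : (0 : ℝ) ≤ (g : ℝ) * (m : ℝ) := mul_nonneg (Nat.cast_nonneg _)
      (by exact_mod_cast Int.floor_nonneg.2 (by positivity : (0 : ℝ) ≤ 2 * Real.sqrt (Nat.card k)))
    rintro (h | h)
    · rw [h, hneg, (hquad _).1.nextCoeff_pow, (hquad _).2.2, nsmul_eq_mul]
      push_cast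
      rw [show (g : ℝ) * -(m : ℝ) = -((g : ℝ) * (m : ℝ)) by ring, abs_neg, abs_of_nonneg hg0]
    · rw [h, (hquad _).1.nextCoeff_pow, (hquad _).2.2, nsmul_eq_mul]
      push_cast
      rw [abs_of_nonneg hg0]

end Groth.Agent.AVFrobLib
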