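import Mathlib.Data.Multiset.Powerset
import Mathlib.Algebra.BigOperators.Field
import Mathlib.Algebra.Polynomial.BigOperators
import Mathlib.Analysis.Complex.Basic

/-! The functional equation of an alternating product over the sub-multisets of a multiset. -/

noncomputable section

open Polynomial

namespace Groth.Agent.AVFrobLib

/-- Products of `j`-element sub-multisets. -/
def pr (s : Multiset ℂ) (j : ℕ) : Multiset ℂ := (s.powersetCard j).map Multiset.prod

theorem pr_zero (s : Multiset ℂ) : pr s 0 = {1} := by simp [pr]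

theorem pr_cons (a : ℂ) (s : Multiset ℂ) (j : ℕ) : pr (a ::ₘ s) (j + 1) = pr s (j + 1) + (pr s j).map (a * ·) := by
  simp [pr, Multiset.powersetCard_cons, Multiset.map_add, Function.comp_def]

theorem pr_of_lt (s : Multiset ℂ) {j : ℕ} (h : Multiset.card s < j) : pr s j = 0 := by
  simp [pr, Multiset.powersetCard_eq_empty _ h]

theorem pr_compl : ∀ (s : Multiset ℂ), (∀ c ∈ s, c ≠ 0) → ∀ i j : ℕ, i + j = Multiset.card s →
    (pr s i).map (fun c => s.prod / c) = pr s j := by
  intro s
  induction s using Multiset.induction with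
  | empty =>
    intro _ i j h
    obtain ⟨rfl, rfl⟩ : i = 0 ∧ j = 0 := by simp at h; omega
    simp [pr_zero]
  | cons a s ih =>
    intro hne i j h
    have ha : a ≠ 0 := hne a (Multiset.mem_cons_self a s)
    have hs : ∀ c ∈ s, c ≠ 0 := fun c hc => hne c (Multiset.mem_cons_of_mem hc)
    rw [Multiset.card_cons] at h
    rcases i with _ | i <;> rcases j with _ | j
    · omega
    · have := ih hs 0 j (by omega)
      rw [pr_zero] at this
      rw [pr_cons, pr_of_lt s (by omega : Multiset.card s < j + 1), zero_add, ← this, pr_zero]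
      simp [mul_comm]
    · have := ih hs i 0 (by omega)
      rw [pr_cons, pr_of_lt s (by omega : Multiset.card s < i + 1), zero_add, pr_zero, Multiset.map_map]
      rw [pr_zero] at this
      refine Eq.trans (Multiset.map_congr rfl fun c _ => ?_) this
      simp only [Function.comp_apply, Multiset.prod_cons]
      rw [mul_div_mul_left _ _ ha]
    · rw [pr_cons, Multiset.map_add, pr_cons a s j, add_comm (pr s (j + 1)), ← ih hs (i + 1) j (by omega),
        ← ih hs i (j + 1) (by omega), Multiset.map_map, Multiset.map_map]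
      congr 1
      · refine Multiset.map_congr rfl fun c _ => ?_
        simp only [Function.comp_apply, Multiset.prod_cons]
        rw [mul_div_assoc]
      · refine Multiset.map_congr rfl fun c _ => ?_
        simp only [Function.comp_apply, Multiset.prod_cons]
        rw [mul_div_mul_left _ _ ha]

/-- The alternating product. -/
def altp (s : Multiset ℂ) (w : ℂ) : ℂ :=
  ∏ i ∈ Finset.range (Multiset.card s + 1), ((pr s i).map fun c => w * c⁻¹).prod ^ ((-1 : ℤ) ^ (i + 1))

theorem altp_cons (a : ℂ) (s : Multiset ℂ) (w : ℂ) : altp (a ::ₘ s) w = altp s w * (altp s (w * a⁻¹))⁻¹ := by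
  rw [altp, Multiset.card_cons, Finset.prod_range_succ']
  simp only [pr_cons, Multiset.map_add, Multiset.prod_add, mul_zpow, Finset.prod_mul_distrib, Multiset.map_map]
  rw [mul_right_comm]
  congr 1
  · rw [pr_zero, show ((Multiset.map (fun c => w * c⁻¹) ({1} : Multiset ℂ)).prod ^ ((-1 : ℤ) ^ (0 + 1))) =
      ((Multiset.map (fun c => w * c⁻¹) (pr s 0)).prod ^ ((-1 : ℤ) ^ (0 + 1))) by rw [pr_zero],
      ← Finset.prod_range_succ' (fun i => ((pr s i).map fun c => w * c⁻¹).prod ^ ((-1 : ℤ) ^ (i + 1))),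
      Finset.prod_range_succ, pr_of_lt s (Nat.lt_succ_self _)]
    simp [altp]
  · rw [altp, ← Finset.prod_inv_distrib]
    refine Finset.prod_congr rfl fun i _ => ?_
    rw [pow_succ _ (i + 1), mul_neg_one, zpow_neg]
    congr 3
    refine Multiset.map_congr rfl fun c _ => ?_
    simp [mul_inv, mul_assoc, mul_comm]

theorem altp_eq : ∀ (s : Multiset ℂ), (∀ c ∈ s, c ≠ 0) → s ≠ 0 →
    (∀ w w' : ℂ, w ≠ 0 → w' ≠ 0 → altp s w = altp s w' ∧ altp s w ≠ 0) ∧
      (2 ≤ Multiset.card s → ∀ w : ℂ, w ≠ 0 → altp s w = 1) := by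
  intro s
  induction s using Multiset.induction with
  | empty => intro _ h; exact absurd rfl h
  | cons a s ih =>
    intro hne _
    have ha : a ≠ 0 := hne a (Multiset.mem_cons_self a s)
    rcases eq_or_ne s 0 with rfl | hs
    · have e : ∀ w : ℂ, w ≠ 0 → altp (a ::ₘ 0) w = a⁻¹ := fun w hw => by
        rw [altp_cons]
        simp [altp, pr_zero]
        field_simp
      exact ⟨fun w w' hw hw' => ⟨(e w hw).trans (e w' hw').symm, by rw [e w hw]; exact inv_ne_zero ha⟩,
        fun h => absurd h (by simp)⟩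
    · obtain ⟨h1, -⟩ := ih (fun c hc => hne c (Multiset.mem_cons_of_mem hc)) hs
      have e : ∀ w : ℂ, w ≠ 0 → altp (a ::ₘ s) w = 1 := fun w hw => by
        obtain ⟨h2, h3⟩ := h1 w (w * a⁻¹) hw (mul_ne_zero hw (inv_ne_zero ha))
        rw [altp_cons, ← h2, mul_inv_cancel₀ h3]
      exact ⟨fun w w' hw hw' => ⟨(e w hw).trans (e w' hw').symm, by rw [e w hw]; exact one_ne_zero⟩, fun _ => e⟩

/-- The functional equation. -/
theorem funEq {s : Multiset ℂ} {g : ℕ} (hs : Multiset.card s = 2 * g) (hg : 1 ≤ g) {Q : ℂ} (hQ : s.prod = Q) (hQ0 : Q ≠ 0)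
    {t : ℂ} (ht : t ≠ 0) :
    ∏ j ∈ Finset.range (2 * g + 1), (Polynomial.eval ((Q * t)⁻¹)
        (((s.powersetCard j).map (fun I => (1 : ℂ[X]) - C I.prod * X)).prod)) ^ ((-1 : ℤ) ^ (j + 1)) =
      ∏ j ∈ Finset.range (2 * g + 1), (Polynomial.eval t
        (((s.powersetCard j).map (fun I => (1 : ℂ[X]) - C I.prod * X)).prod)) ^ ((-1 : ℤ) ^ (j + 1)) := by
  have hne : ∀ c ∈ s, c ≠ 0 := fun c hc h0 => hQ0 (hQ ▸ Multiset.prod_eq_zero (h0 ▸ hc))
  have hev : ∀ (u : ℂ) (j : ℕ), Polynomial.eval u (((s.powersetCard j).map (fun I => (1 : ℂ[X]) - C I.prod * X)).prod) =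
      ((pr s j).map fun c => 1 - c * u).prod := by
    intro u j
    rw [Polynomial.eval_multiset_prod, pr, Multiset.map_map, Multiset.map_map]
    refine congrArg Multiset.prod (Multiset.map_congr rfl fun I _ => ?_)
    simp
  simp only [hev]
  have key : ∀ j ∈ Finset.range (2 * g + 1), ((pr s j).map fun c => 1 - c * (Q * t)⁻¹).prod =
      ((pr s (2 * g - j)).map fun c => (-t⁻¹) * c⁻¹).prod * ((pr s (2 * g - j)).map fun c => 1 - c * t).prod := by
    intro j hj
    have hj' : j ≤ 2 * g := Nat.lt_succ_iff.1 (Finset.mem_range.1 hj)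
    rw [← Multiset.prod_map_mul, ← pr_compl s hne j (2 * g - j) (by omega), Multiset.map_map]
    refine congrArg Multiset.prod (Multiset.map_congr rfl fun c hc => ?_)
    have hc0 : c ≠ 0 := by
      obtain ⟨I, hI, rfl⟩ := Multiset.mem_map.1 hc
      exact Multiset.prod_ne_zero fun h0 => hne 0 (Multiset.mem_of_le (Multiset.mem_powersetCard.1 hI).1 h0) rfl
    simp only [Function.comp_apply, hQ]
    field_simp
    ring
  rw [Finset.prod_congr rfl (fun j hj => by rw [key j hj]), ← Finset.prod_range_reflect]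
  simp only [Nat.add_sub_cancel]
  have hre : ∀ i ∈ Finset.range (2 * g + 1), 2 * g - (2 * g - i) = i ∧
      ((-1 : ℤ) ^ (2 * g - i + 1)) = (-1 : ℤ) ^ (i + 1) := by
    intro i hi
    have hi' : i ≤ 2 * g := Nat.lt_succ_iff.1 (Finset.mem_range.1 hi)
    refine ⟨by omega, ?_⟩
    rw [neg_one_pow_congr]
    simp only [Nat.even_iff]
    omega
  rw [Finset.prod_congr rfl (fun i hi => by rw [(hre i hi).1, (hre i hi).2])]
  simp only [mul_zpow, Finset.prod_mul_distrib]
  have h1 : altp s (-t⁻¹) = 1 := (altp_eq s hne (by intro h; rw [h] at hs; simp at hs; omega)).2 (by omega) _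
    (neg_ne_zero.2 (inv_ne_zero ht))
  rw [altp, hs] at h1
  rw [h1, one_mul]

end Groth.Agent.AVFrobLib
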