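import Mathlib.AlgebraicGeometry.AffineScheme
import Mathlib.AlgebraicGeometry.Pullbacks
import Mathlib.CategoryTheory.Monoidal.Cartesian.Over
import Mathlib.CategoryTheory.Monoidal.Grp
import Mathlib.RingTheory.PiTensorProduct
import Mathlib.LinearAlgebra.PiTensorProduct.Basis
import Mathlib.Algebra.CharP.Lemmas
import Mathlib.Algebra.CharP.Algebra
import Mathlib.Dynamics.PeriodicPts.Lemmas

/-! Multiplication by `p` on an affine commutative group scheme lands in `p`-th powers. -/

noncomputable section

universe u v w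

set_option linter.style.haveILetI false
set_option backward.isDefEq.respectTransparency false
set_option backward.isDefEq.respectTransparency.types false

open CategoryTheory MonoidalCategory CartesianMonoidalCategory AlgebraicGeometry
open scoped TensorProduct MonObj

namespace Groth.Agent.AVFrobLib

/-- An invariant sum under a permutation of prime period only sees the fixed points. -/
theorem sum_eq_sum_fixed {V : Type v} {M : Type w} [AddCommMonoid M] [DecidableEq V] {p : ℕ} (hp : p.Prime)
    (hM : ∀ a : M, p • a = 0) (τ : V → V) (g : V → M) (hτ : ∀ x, τ^[p] x = x) (hg : ∀ x, g (τ x) = g x)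
    (s : Finset V) (hs : ∀ x ∈ s, τ x ∈ s) : ∑ x ∈ s, g x = ∑ x ∈ s.filter (fun x => τ x = x), g x := by
  induction s using Finset.strongInduction with
  | _ s ih =>
    by_cases h : ∀ x ∈ s, τ x = x
    · rw [Finset.filter_true_of_mem h]
    · push Not at h
      obtain ⟨x, hx, hne⟩ := h
      have hper : Function.minimalPeriod τ x = p := by
        rcases hp.eq_one_or_self_of_dvd _ (Function.IsPeriodicPt.minimalPeriod_dvd (hτ x)) with h1 | h1
        · exact absurd (Function.minimalPeriod_eq_one_iff_isFixedPt.1 h1) hne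
        · exact h1
      let O := (Finset.range p).image fun i => τ^[i] x
      have hmem : ∀ i, τ^[i] x ∈ s := fun i => by
        induction i with
        | zero => exact hx
        | succ i ihi => rw [Function.iterate_succ_apply']; exact hs _ ihi
      have hO : ∀ i, τ^[i] x ∈ O := fun i => Finset.mem_image.2 ⟨i % p, Finset.mem_range.2 (Nat.mod_lt _ hp.pos), by
        rw [← hper, Function.iterate_mod_minimalPeriod_eq]⟩
      have hOs : O ⊆ s := by
        intro y hy
        obtain ⟨i, -, rfl⟩ := Finset.mem_image.1 hy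
        exact hmem i
      have hnf : ∀ y ∈ O, τ y ≠ y := by
        intro y hy e
        obtain ⟨i, hi, rfl⟩ := Finset.mem_image.1 hy
        refine hne ?_
        have e2 : τ^[p - i] (τ (τ^[i] x)) = τ^[p - i] (τ^[i] x) := by rw [e]
        rwa [← Function.iterate_succ_apply, ← Function.iterate_add_apply, ← Function.iterate_add_apply,
          show p - i + 1 + i = 1 + p by have := Finset.mem_range.1 hi; omega,
          show p - i + i = p by have := Finset.mem_range.1 hi; omega,
          Function.iterate_add_apply, hτ, Function.iterate_one] at e2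
      have hsd : ∀ y ∈ s \ O, τ y ∈ s \ O := by
        intro y hy
        rw [Finset.mem_sdiff] at hy ⊢
        refine ⟨hs y hy.1, fun h => hy.2 ?_⟩
        obtain ⟨i, -, hi⟩ := Finset.mem_image.1 h
        rw [show y = τ^[p - 1 + i] x by
          rw [Function.iterate_add_apply, hi, ← Function.iterate_succ_apply,
            show (p - 1).succ = p by have := hp.pos; omega, hτ]]
        exact hO _
      have hgi : ∀ i, g (τ^[i] x) = g x := fun i => by
        induction i with
        | zero => rfl
        | succ i ihi => rw [Function.iterate_succ_apply', hg, ihi]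
      have hsum : ∑ y ∈ O, g y = 0 := by
        rw [Finset.sum_image]
        · rw [Finset.sum_congr rfl (fun i _ => hgi i), Finset.sum_const, Finset.card_range, hM]
        · intro i hi j hj e
          exact Function.iterate_injOn_Iio_minimalPeriod (by rw [hper]; exact Finset.mem_range.1 hi)
            (by rw [hper]; exact Finset.mem_range.1 hj) e
      have hfil : s.filter (fun x => τ x = x) = (s \ O).filter (fun x => τ x = x) := by
        ext y
        simp only [Finset.mem_filter, Finset.mem_sdiff]
        exact ⟨fun ⟨h1, h2⟩ => ⟨⟨h1, fun h => hnf y h h2⟩, h2⟩, fun ⟨⟨h1, _⟩, h2⟩ => ⟨h1, h2⟩⟩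
      rw [hfil, ← ih (s \ O) (Finset.sdiff_ssubset hOs ⟨x, hO 0⟩) hsd, ← Finset.sum_sdiff hOs, hsum, add_zero]

section Algebra

variable {k : Type u} [CommRing k] {B : Type u} [CommRing B] [Algebra k B] {n : ℕ}

/-- The algebra map out of a tensor power given by a family of algebra maps. -/
def fam {C : Type u} [CommRing C] [Algebra k C] (f : Fin n → (B →ₐ[k] C)) : (⨂[k] _ : Fin n, B) →ₐ[k] C :=
  PiTensorProduct.liftAlgHom ((MultilinearMap.mkPiAlgebra k (Fin n) C).compLinearMap fun i => (f i).toLinearMap)
    (by simp) (fun x y => by simp [Finset.prod_mul_distrib])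

theorem fam_tprod {C : Type u} [CommRing C] [Algebra k C] (f : Fin n → (B →ₐ[k] C)) (x : Fin n → B) :
    fam f (PiTensorProduct.tprod k x) = ∏ i, f i (x i) := by
  simp [fam]

theorem fam_single {C : Type u} [CommRing C] [Algebra k C] (f : Fin n → (B →ₐ[k] C)) (i : Fin n) :
    (fam f).comp (PiTensorProduct.singleAlgHom i) = f i := by
  refine AlgHom.ext fun b => ?_
  rw [AlgHom.comp_apply, PiTensorProduct.singleAlgHom_apply, fam_tprod, Finset.prod_eq_single i]
  · simp
  · intro j _ hj; simp [hj]
  · simp

theorem tprod_eq_prod_single (x : Fin n → B) :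
    PiTensorProduct.tprod k x = ∏ i, PiTensorProduct.singleAlgHom (R := k) (A := fun _ : Fin n => B) i (x i) := by
  simp only [PiTensorProduct.singleAlgHom_apply, ← PiTensorProduct.tprod_prod, MonoidHom.mulSingle_apply,
    Finset.univ_prod_mulSingle]

end Algebra

section Span

variable {k : Type u} [Field k] {B : Type u} [CommRing B] [Algebra k B] [Module.Finite k B]

open Fin.NatCast in
/-- The multiplication of a rotation invariant element of the `p`-th tensor power is a combination of `p`-th powers. -/
theorem fam_id_mem_span {p : ℕ} [hp : Fact p.Prime] [CharP k p] (t : ⨂[k] _ : Fin p, B)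
    (ht : fam (fun i => PiTensorProduct.singleAlgHom (R := k) (A := fun _ : Fin p => B) (finRotate p i)) t = t) :
    fam (fun _ => AlgHom.id k B) t ∈ Submodule.span k (Set.range fun a : B => a ^ p) := by
  classical
  let κ := Module.Free.ChooseBasisIndex k B
  let b := Module.Free.chooseBasis k B
  let T : Module.Basis (Fin p → κ) k (⨂[k] _ : Fin p, B) := Basis.piTensorProduct fun _ => b
  let τ : (Fin p → κ) → (Fin p → κ) := fun v => v ∘ finRotate p
  let c := T.repr t
  have hT : ∀ v, T v = PiTensorProduct.tprod k fun i => b (v i) := fun v => Basis.piTensorProduct_apply _ v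
  have hσ : ∀ v, fam (fun i => PiTensorProduct.singleAlgHom (R := k) (A := fun _ : Fin p => B) (finRotate p i))
      (T (τ v)) = T v := by
    intro v
    rw [hT, hT, fam_tprod, tprod_eq_prod_single]
    exact Equiv.prod_comp (finRotate p)
      (fun j => PiTensorProduct.singleAlgHom (R := k) (A := fun _ : Fin p => B) j (b (v j)))
  have hbij : Function.Bijective τ :=
    ⟨fun v w h => funext fun j => by simpa [τ] using congrFun h ((finRotate p).symm j),
      fun w => ⟨w ∘ (finRotate p).symm, funext fun j => by simp [τ]⟩⟩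
  have hc : ∀ v, c (τ v) = c v := by
    intro w
    have h := congrArg (fun z => T.repr z w) ht
    conv_lhs at h => rw [← T.sum_repr t, map_sum, ← Equiv.sum_comp (Equiv.ofBijective τ hbij)]
    simp only [map_smul, Equiv.ofBijective_apply, hσ, map_sum, Finsupp.coe_finset_sum, Finset.sum_apply,
      Finsupp.smul_apply, Module.Basis.repr_self, Finsupp.single_apply, smul_eq_mul, mul_ite, mul_one, mul_zero,
      Finset.sum_ite_eq', Finset.mem_univ, if_true] at h
    exact h
  have hM : ∀ a : B, p • a = 0 := fun a => by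
    rw [← Nat.cast_smul_eq_nsmul k, CharP.cast_eq_zero, zero_smul]
  have hper : ∀ v : Fin p → κ, τ^[p] v = v := by
    have : ∀ (i : ℕ) (v : Fin p → κ), τ^[i] v = v ∘ (finRotate p)^[i] := by
      intro i
      induction i with
      | zero => intro v; rfl
      | succ i ih => intro v; rw [Function.iterate_succ_apply', ih]; funext j; simp [τ]
    intro v
    rw [this]
    funext j
    simp only [Function.comp_apply]
    haveI : NeZero p := ⟨hp.out.ne_zero⟩
    have : ∀ i : ℕ, (finRotate p)^[i] j = j + (i : Fin p) := by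
      intro i
      induction i with
      | zero => simp
      | succ i ih => rw [Function.iterate_succ_apply', ih, finRotate_apply, Nat.cast_succ, add_assoc]
    rw [this, Fin.natCast_self, add_zero]
  rw [← T.sum_repr t, map_sum]
  rw [sum_eq_sum_fixed hp.out hM τ _ hper (fun v => ?_) Finset.univ (fun _ _ => Finset.mem_univ _)]
  · refine Submodule.sum_mem _ fun v hv => ?_
    rw [map_smul]
    refine Submodule.smul_mem _ _ (Submodule.subset_span ?_)
    haveI : NeZero p := ⟨hp.out.ne_zero⟩
    have hv' : ∀ j, v (j + 1) = v j := fun j => by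
      have := congrFun (Finset.mem_filter.1 hv).2 j
      simpa [τ, finRotate_apply] using this
    have hconst : ∀ i : ℕ, v (i : Fin p) = v 0 := by
      intro i
      induction i with
      | zero => simp
      | succ i ih => rw [Nat.cast_succ, hv', ih]
    refine ⟨b (v 0), ?_⟩
    rw [hT, fam_tprod]
    show b (v 0) ^ p = _
    rw [Finset.prod_congr rfl (fun i _ => show (AlgHom.id k B) (b (v i)) = b (v 0) by
      rw [AlgHom.id_apply, ← hconst i.val, Fin.cast_val_eq_self]), Finset.prod_const, Finset.card_univ, Fintype.card_fin]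
  · show fam _ (c (τ v) • T (τ v)) = fam _ (c v • T v)
    rw [hc, map_smul, map_smul]
    congr 1
    rw [hT, hT, fam_tprod, fam_tprod]
    exact Equiv.prod_comp (finRotate p) (fun j => (AlgHom.id k B) (b (v j)))

end Span

section Group

variable {k : Type u} [Field k]

/-- The spectrum of an algebra as a scheme over the field. -/
abbrev Ys (C : Type u) [CommRing C] [Algebra k C] : Over (Spec (CommRingCat.of k)) :=
  Over.mk (Spec.map (CommRingCat.ofHom (algebraMap k C)))

variable {C D E : Type u} [CommRing C] [Algebra k C] [CommRing D] [Algebra k D] [CommRing E] [Algebra k E]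

def ysMap (f : C →ₐ[k] D) : Ys (k := k) D ⟶ Ys (k := k) C :=
  Over.homMk (Spec.map (CommRingCat.ofHom f.toRingHom)) (by
    show Spec.map _ ≫ Spec.map _ = Spec.map _
    rw [← Spec.map_comp, ← CommRingCat.ofHom_comp]
    exact congrArg (fun φ => Spec.map (CommRingCat.ofHom φ)) f.comp_algebraMap)

theorem ysMap_comp (f : C →ₐ[k] D) (g : D →ₐ[k] E) : ysMap g ≫ ysMap f = ysMap (g.comp f) :=
  Over.OverMorphism.ext (Spec.map_comp _ _).symm

theorem ysMap_id : ysMap (AlgHom.id k C) = 𝟙 _ := Over.OverMorphism.ext (Spec.map_id _)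

theorem ysMap_injective : Function.Injective (ysMap (k := k) : (C →ₐ[k] D) → _) := fun f g h => by
  have := congrArg CommRingCat.Hom.hom (Spec.map_injective (congrArg CommaMorphism.left h))
  exact AlgHom.ext fun c => congr($this c)

theorem ysMap_surjective : Function.Surjective (ysMap (k := k) : (C →ₐ[k] D) → _) := fun P => by
  obtain ⟨φ, hφ⟩ := Spec.map_surjective P.left
  refine ⟨{ φ.hom with commutes' := fun r => ?_ }, Over.OverMorphism.ext hφ⟩
  have h := Over.w P
  rw [← hφ] at h
  have h' : Spec.map φ ≫ Spec.map (CommRingCat.ofHom (algebraMap k C)) =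
      Spec.map (CommRingCat.ofHom (algebraMap k D)) := h
  rw [← Spec.map_comp] at h'
  exact congr($(congrArg CommRingCat.Hom.hom (Spec.map_injective h')) r)

variable {G : Over (Spec (CommRingCat.of k))} [GrpObj G] [IsCommMonObj G] {B : Type u} [CommRing B] [Algebra k B]

theorem comp_prod {S T : Over (Spec (CommRingCat.of k))} (f : S ⟶ T) {κ : Type} (s : Finset κ) (x : κ → (T ⟶ G)) :
    f ≫ ∏ i ∈ s, x i = ∏ i ∈ s, f ≫ x i :=
  map_prod ({ toFun := fun h => f ≫ h, map_one' := MonObj.comp_one _, map_mul' := MonObj.comp_mul _ } : (T ⟶ G) →* (S ⟶ G)) x s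

variable [Module.Finite k B] (x₀ : Ys (k := k) B ≅ G) {p : ℕ} [Fact p.Prime] [CharP k p]

theorem mulP_mem_span {ψ : B →ₐ[k] B} (hψ : ysMap ψ ≫ x₀.hom = x₀.hom ^ p) (b : B) :
    ψ b ∈ Submodule.span k (Set.range fun a : B => a ^ p) := by
  classical
  let x : Fin p → (Ys (k := k) (⨂[k] _ : Fin p, B) ⟶ G) :=
    fun j => ysMap (PiTensorProduct.singleAlgHom (R := k) (A := fun _ : Fin p => B) j) ≫ x₀.hom
  obtain ⟨Φ, hΦ⟩ := ysMap_surjective ((∏ j, x j) ≫ x₀.inv)
  have hP : ysMap Φ ≫ x₀.hom = ∏ j, x j := by rw [hΦ, Category.assoc, Iso.inv_hom_id, Category.comp_id]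
  have hinv : (fam fun i => PiTensorProduct.singleAlgHom (R := k) (A := fun _ : Fin p => B) (finRotate p i)).comp Φ = Φ := by
    apply ysMap_injective
    rw [← cancel_mono x₀.hom, ← ysMap_comp, Category.assoc, hP, comp_prod]
    conv_rhs => rw [← Equiv.prod_comp (finRotate p)]
    refine Finset.prod_congr rfl fun j _ => ?_
    simp only [x]
    rw [← Category.assoc, ysMap_comp, fam_single]
  have hm : (fam fun _ : Fin p => AlgHom.id k B).comp Φ = ψ := by
    apply ysMap_injective
    rw [← cancel_mono x₀.hom, ← ysMap_comp, Category.assoc, hP, comp_prod, hψ,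
      Finset.prod_congr rfl (fun j _ => show _ = x₀.hom by
        simp only [x]; rw [← Category.assoc, ysMap_comp, fam_single, ysMap_id, Category.id_comp]),
      Finset.prod_const, Finset.card_univ, Fintype.card_fin]
  rw [← hm]
  exact fam_id_mem_span (Φ b) (congr($hinv b))

theorem mulPow_mem_span : ∀ (e : ℕ) {ψ : B →ₐ[k] B}, ysMap ψ ≫ x₀.hom = x₀.hom ^ p ^ e → ∀ b : B,
    ψ b ∈ Submodule.span k (Set.range fun a : B => a ^ p ^ e)
  | 0, ψ, hψ, b => Submodule.subset_span ⟨ψ b, by simp⟩
  | e + 1, ψ, hψ, b => by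
    haveI : ExpChar k p := ExpChar.prime Fact.out
    obtain ⟨ψ₁, h₁⟩ := ysMap_surjective ((x₀.hom ^ p) ≫ x₀.inv)
    obtain ⟨ψ₂, h₂⟩ := ysMap_surjective ((x₀.hom ^ p ^ e) ≫ x₀.inv)
    have e₁ : ysMap ψ₁ ≫ x₀.hom = x₀.hom ^ p := by rw [h₁, Category.assoc, Iso.inv_hom_id, Category.comp_id]
    have e₂ : ysMap ψ₂ ≫ x₀.hom = x₀.hom ^ p ^ e := by rw [h₂, Category.assoc, Iso.inv_hom_id, Category.comp_id]
    have hc : ψ = ψ₂.comp ψ₁ := by
      apply ysMap_injective
      rw [← cancel_mono x₀.hom, hψ, ← ysMap_comp, Category.assoc, e₁, MonObj.comp_pow, e₂, ← pow_mul, ← pow_succ]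
    subst hc
    rw [AlgHom.comp_apply]
    have h1 := mulP_mem_span x₀ e₁ b
    generalize ψ₁ b = z at h1 ⊢
    induction h1 using Submodule.span_induction with
    | zero => rw [map_zero]; exact Submodule.zero_mem _
    | add y z _ _ hy hz => rw [map_add]; exact Submodule.add_mem _ hy hz
    | smul r y _ hy => rw [map_smul]; exact Submodule.smul_mem _ _ hy
    | mem y hy =>
      obtain ⟨a, rfl⟩ := hy
      rw [map_pow]
      have h2 := mulPow_mem_span e e₂ a
      generalize ψ₂ a = z' at h2 ⊢
      induction h2 using Submodule.span_induction with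
      | zero => rw [zero_pow (Fact.out : p.Prime).ne_zero]; exact Submodule.zero_mem _
      | add y z _ _ hy hz =>
        rcases subsingleton_or_nontrivial B with hB | hB
        · rw [Subsingleton.elim ((y + z) ^ p) 0]; exact Submodule.zero_mem _
        · haveI : CharP B p := charP_of_injective_algebraMap (algebraMap k B).injective p
          rw [add_pow_char]; exact Submodule.add_mem _ hy hz
      | smul r y _ hy => rw [smul_pow]; exact Submodule.smul_mem _ _ hy
      | mem y hy =>
        obtain ⟨c, rfl⟩ := hy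
        exact Submodule.subset_span ⟨c, show c ^ p ^ (e + 1) = (c ^ p ^ e) ^ p by rw [pow_succ, pow_mul]⟩

include x₀ in
/-- A finite commutative group scheme on which the `p^e`-th powers of functions are constants is killed by `p^e`. -/
theorem pow_eq_one_of_powers_const (e : ℕ) (h : ∀ a : B, ∃ r : k, algebraMap k B r = a ^ p ^ e) :
    (𝟙 G : G ⟶ G) ^ p ^ e = 1 := by
  obtain ⟨ψ, hψ'⟩ := ysMap_surjective ((x₀.hom ^ p ^ e) ≫ x₀.inv)
  have hψ : ysMap ψ ≫ x₀.hom = x₀.hom ^ p ^ e := by rw [hψ', Category.assoc, Iso.inv_hom_id, Category.comp_id]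
  obtain ⟨ε, hε⟩ := ysMap_surjective ((1 : Ys (k := k) k ⟶ G) ≫ x₀.inv)
  have hmem : ∀ b : B, ψ b ∈ LinearMap.range (Algebra.linearMap k B) := fun b => by
    refine Submodule.span_le.2 ?_ (mulPow_mem_span x₀ e hψ b)
    rintro _ ⟨a, rfl⟩
    exact h a
  have hεψ : ψ = ((Algebra.ofId k B).comp ε).comp ψ := by
    refine AlgHom.ext fun b => ?_
    obtain ⟨r, hr⟩ := hmem b
    rw [AlgHom.comp_apply, AlgHom.comp_apply, ← hr, Algebra.linearMap_apply, ε.commutes, Algebra.algebraMap_self_apply,
      Algebra.ofId_apply]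
  have hε1 : ysMap ε ≫ x₀.hom = 1 := by rw [hε, Category.assoc, Iso.inv_hom_id, Category.comp_id]
  have hx : x₀.hom ^ p ^ e = 1 := by
    rw [← hψ]
    conv_lhs => rw [hεψ, ← ysMap_comp, ← ysMap_comp, Category.assoc, Category.assoc, hψ, MonObj.comp_pow, MonObj.comp_pow,
      hε1]
    simp
  calc (𝟙 G : G ⟶ G) ^ p ^ e = (x₀.inv ≫ x₀.hom) ^ p ^ e := by rw [Iso.inv_hom_id]
    _ = x₀.inv ≫ x₀.hom ^ p ^ e := (MonObj.comp_pow _ _ _).symm
    _ = 1 := by rw [hx, MonObj.comp_one]

end Group

end Groth.Agent.AVFrobLib
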