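import Groth.Agent.AVFrobLib.PowPull
import Groth.Agent.AVFrobLib.CardPoints
import Groth.Agent.AVCharpoly.Minpoly
import Groth.Agent.AVHomForm.Form
import Mathlib.Analysis.Complex.Polynomial.Basic
import Mathlib.LinearAlgebra.Matrix.NonsingularInverse
import Mathlib.LinearAlgebra.Matrix.PosDef

/-! The Riemann hypothesis for the Frobenius of an abelian variety over a finite field. -/

noncomputable section

set_option linter.style.haveILetI false
set_option linter.unusedSectionVars false
set_option maxHeartbeats 1000000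
set_option synthInstance.maxHeartbeats 200000
set_option backward.isDefEq.respectTransparency false
set_option backward.isDefEq.respectTransparency.types false

universe u

open CategoryTheory AlgebraicGeometry
open Polynomial ComplexConjugate

namespace Groth.Agent.AVFrobLib

open Groth.Agent

/-- An integral matrix with a positive form on nonzero integral vectors is positive definite over the reals. -/
theorem posDef_of_int {d : ℕ} (G : Matrix (Fin d) (Fin d) ℤ) (hsym : ∀ i j, G i j = G j i)
    (hpos : ∀ n : Fin d → ℤ, n ≠ 0 → 0 < ∑ i, ∑ j, n i * G i j * n j) (x : Fin d → ℝ) (hx : x ≠ 0) :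
    0 < ∑ i, ∑ j, x i * (G i j : ℝ) * x j := by
  classical
  let M : Matrix (Fin d) (Fin d) ℝ := G.map (Int.castRingHom ℝ)
  let Φ : (Fin d → ℝ) → ℝ := fun y => ∑ i, ∑ j, y i * (G i j : ℝ) * y j
  have hΦ : Continuous Φ := by fun_prop
  have hnn : ∀ y, 0 ≤ Φ y := by
    intro y
    have hdense : DenseRange (fun r : Fin d → ℚ => fun i => (r i : ℝ)) :=
      DenseRange.piMap fun _ => Rat.denseRange_cast
    refine hdense.induction_on y (isClosed_le continuous_const hΦ) fun r => ?_
    let N : ℕ := ∏ i, (r i).den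
    have hN : 0 < N := Finset.prod_pos fun i _ => (r i).den_pos
    choose n hn using fun i : Fin d => (⟨(r i).num * ((N / (r i).den : ℕ) : ℤ), by
        obtain ⟨c, hc⟩ : (r i).den ∣ N := Finset.dvd_prod_of_mem _ (Finset.mem_univ i)
        rw [hc, Nat.mul_div_cancel_left _ (r i).den_pos]
        push_cast
        rw [← mul_assoc, Rat.mul_den_eq_num]⟩ : ∃ n : ℤ, r i * (N : ℚ) = (n : ℚ))
    have e : (N : ℝ) ^ 2 * Φ (fun i => (r i : ℝ)) = ((∑ i, ∑ j, n i * G i j * n j : ℤ) : ℝ) := by
      simp only [Φ, Finset.mul_sum, Int.cast_sum, Int.cast_mul]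
      refine Finset.sum_congr rfl fun i _ => Finset.sum_congr rfl fun j _ => ?_
      have hi : (n i : ℝ) = (r i : ℝ) * (N : ℝ) := by exact_mod_cast (hn i).symm
      have hj : (n j : ℝ) = (r j : ℝ) * (N : ℝ) := by exact_mod_cast (hn j).symm
      rw [hi, hj]; ring
    have h0 : (0 : ℤ) ≤ ∑ i, ∑ j, n i * G i j * n j := by
      by_cases h : n = 0
      · simp [h]
      · exact (hpos n h).le
    have h1 : (0 : ℝ) ≤ (N : ℝ) ^ 2 * Φ (fun i => (r i : ℝ)) := by rw [e]; exact_mod_cast h0
    exact nonneg_of_mul_nonneg_right h1 (by positivity)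
  have hdet : M.det ≠ 0 := by
    have hG : G.det ≠ 0 := by
      intro h0
      obtain ⟨v, hv, hvG⟩ := Matrix.exists_mulVec_eq_zero_iff.2 h0
      refine (hpos v hv).ne' ?_
      refine Finset.sum_eq_zero fun i _ => ?_
      have := congrFun hvG i
      simp only [Matrix.mulVec, dotProduct, Pi.zero_apply] at this
      simp only [mul_assoc, ← Finset.mul_sum, this, mul_zero]
    rw [show M.det = ((G.det : ℤ) : ℝ) from ((Int.castRingHom ℝ).map_det G).symm]
    exact_mod_cast hG
  have hh : M.IsHermitian := Matrix.IsHermitian.ext fun i j => by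
    show (G j i : ℝ) = (G i j : ℝ)
    rw [hsym]
  have e2 : ∀ y : Fin d → ℝ, star y ⬝ᵥ M.mulVec y = Φ y := fun y => by
    simp [Φ, M, Matrix.mulVec, dotProduct, Finset.mul_sum, mul_assoc]
  have hps : M.PosSemidef := Matrix.PosSemidef.of_dotProduct_mulVec_nonneg hh fun y => by
    rw [e2]; exact hnn y
  have hpd : M.PosDef := hps.posDef_iff_isUnit.2 ((Matrix.isUnit_iff_isUnit_det M).2 (isUnit_iff_ne_zero.2 hdet))
  have := hpd.dotProduct_mulVec_pos hx
  rwa [e2] at this

variable {k : Type u} [Field k] [Finite k] {A : Over (Spec (CommRingCat.of k))}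
  [GrpObj A] [IsCommMonObj A] [IsProper A.hom] [GeometricallyIntegral A.hom]

/-- Complexified form on polynomials in an endomorphism, with the scaling property of the Frobenius. -/
theorem exists_cform (π : EndAV.End A) (hπ : WeilLib.IsPowMap π.toHom.left (Nat.card k))
    {ν : Polynomial ℤ} (hν0 : Polynomial.aeval π ν = 0)
    (hli : LinearIndependent ℤ fun i : Fin ν.natDegree => π ^ (i : ℕ)) :
    ∃ β : Polynomial ℂ →ₗ[ℂ] Polynomial ℂ →ₗ[ℂ] ℂ,
      (∀ F G, β (X * F) (X * G) = (Nat.card k : ℂ) * β F G) ∧
      (∀ F G, β (ν.map (Int.castRingHom ℂ) * F) G = 0) ∧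
      (∀ F G, β F (ν.map (Int.castRingHom ℂ) * G) = 0) ∧
      ∀ F : Polynomial ℂ, F ≠ 0 → F.natDegree < ν.natDegree → β F (F.map (starRingEnd ℂ)) ≠ 0 := by
  classical
  obtain ⟨b, hsym, hpos, hscale⟩ := AVHomForm.exists_posDef_form_scaling (A := A) (B := A)
  let c : ℕ → ℕ → ℂ := fun i j => ((b (π ^ i) (π ^ j) : ℤ) : ℂ)
  let β : Polynomial ℂ →ₗ[ℂ] Polynomial ℂ →ₗ[ℂ] ℂ :=
    (Polynomial.basisMonomials ℂ).constr ℂ fun i => (Polynomial.basisMonomials ℂ).constr ℂ fun j => c i j
  have hβ : ∀ i j : ℕ, β (monomial i 1) (monomial j 1) = c i j := fun i j => by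
    rw [show (monomial i (1 : ℂ)) = Polynomial.basisMonomials ℂ i from (congrFun (Polynomial.coe_basisMonomials ℂ) i).symm,
      show (monomial j (1 : ℂ)) = Polynomial.basisMonomials ℂ j from (congrFun (Polynomial.coe_basisMonomials ℂ) j).symm]
    simp only [β, Module.Basis.constr_basis]
  have hsum : ∀ F G : Polynomial ℂ, ∀ N, F.natDegree < N → ∀ M, G.natDegree < M →
      β F G = ∑ i ∈ Finset.range N, ∑ j ∈ Finset.range M, F.coeff i * G.coeff j * c i j := by
    intro F G N hN M hM
    have hm : ∀ (i : ℕ) (a : ℂ), monomial i a = a • monomial i (1 : ℂ) := fun i a => by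
      rw [Polynomial.smul_monomial, smul_eq_mul, mul_one]
    conv_lhs => rw [F.as_sum_range' N hN, G.as_sum_range' M hM]
    simp only [map_sum, LinearMap.sum_apply]
    rw [Finset.sum_comm]
    refine Finset.sum_congr rfl fun i _ => Finset.sum_congr rfl fun j _ => ?_
    rw [hm i, hm j, map_smul, map_smul, LinearMap.smul_apply, hβ, smul_eq_mul, smul_eq_mul]
    ring
  have hpow : ∀ i : ℕ, π ^ (i + 1) = π * π ^ i := fun i => pow_succ' π i
  have hq : ∀ u v : EndAV.End A, b (π * u) (π * v) = (Nat.card k : ℕ) * b u v := fun u v =>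
    hscale π (Nat.card k) (fun N hN => pullCl_powMap hπ hN) u v
  refine ⟨β, ?_, ?_, ?_, ?_⟩
  · intro F G
    induction F using Polynomial.induction_on' with
    | add F₁ F₂ h1 h2 => simp only [mul_add, map_add, LinearMap.add_apply, h1, h2]
    | monomial i a =>
      induction G using Polynomial.induction_on' with
      | add G₁ G₂ h1 h2 => simp only [mul_add, map_add, h1, h2]
      | monomial j e =>
        have hm : ∀ (i : ℕ) (a : ℂ), monomial i a = a • monomial i (1 : ℂ) := fun i a => by
          rw [Polynomial.smul_monomial, smul_eq_mul, mul_one]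
        rw [Polynomial.X_mul_monomial, Polynomial.X_mul_monomial, hm i, hm j, hm (i + 1), hm (j + 1)]
        simp only [map_smul, LinearMap.smul_apply, hβ, c, hpow, hq, smul_eq_mul]
        push_cast
        ring
  rotate_left 2
  · intro F hF hd h0
    rw [hsum F _ ν.natDegree hd ν.natDegree ((Polynomial.natDegree_map_le).trans_lt hd), Finset.sum_range] at h0
    let G : Matrix (Fin ν.natDegree) (Fin ν.natDegree) ℤ := fun i j => b (π ^ (i : ℕ)) (π ^ (j : ℕ))
    have hG : ∀ n : Fin ν.natDegree → ℤ, n ≠ 0 → 0 < ∑ i, ∑ j, n i * G i j * n j := by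
      intro n hn
      have hne : (∑ i, n i • π ^ (i : ℕ)) ≠ 0 := fun h => hn (funext (Fintype.linearIndependent_iff.1 hli n h))
      have e : b (∑ i, n i • π ^ (i : ℕ)) (∑ i, n i • π ^ (i : ℕ)) = ∑ i, ∑ j, n i * G i j * n j := by
        simp only [map_sum, map_zsmul, AddMonoidHom.finsetSum_apply, AddMonoidHom.smul_apply, G, smul_eq_mul]
        rw [Finset.sum_comm]
        refine Finset.sum_congr rfl fun i _ => ?_
        rw [Finset.mul_sum]
        exact Finset.sum_congr rfl fun j _ => by ring
      rw [← e]; exact hpos _ hne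
    let a : Fin ν.natDegree → ℝ := fun i => (F.coeff i).re
    let e : Fin ν.natDegree → ℝ := fun i => (F.coeff i).im
    have hre := congrArg Complex.re h0
    have hre' : ∑ i, ∑ j, a i * (G i j : ℝ) * a j + ∑ i, ∑ j, e i * (G i j : ℝ) * e j = 0 := by
      rw [← Complex.zero_re, ← hre, Complex.re_sum, ← Finset.sum_add_distrib]
      refine Finset.sum_congr rfl fun i _ => ?_
      rw [Finset.sum_range, Complex.re_sum, ← Finset.sum_add_distrib]
      refine Finset.sum_congr rfl fun j _ => ?_
      simp only [Polynomial.coeff_map, c, a, e, G, Complex.mul_re, Complex.mul_im, Complex.conj_re, Complex.conj_im,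
        Complex.intCast_re, Complex.intCast_im]
      ring
    have hsymG : ∀ i j, G i j = G j i := fun i j => hsym _ _
    have hnn : ∀ x : Fin ν.natDegree → ℝ, 0 ≤ ∑ i, ∑ j, x i * (G i j : ℝ) * x j := fun x => by
      by_cases hx : x = 0
      · simp [hx]
      · exact (posDef_of_int G hsymG hG x hx).le
    refine hF (Polynomial.ext fun i => ?_)
    by_cases hi : i < ν.natDegree
    · apply Complex.ext
      · by_contra h
        have := posDef_of_int G hsymG hG a (fun h0 => h (congrFun h0 ⟨i, hi⟩))
        linarith [hnn e]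
      · by_contra h
        have := posDef_of_int G hsymG hG e (fun h0 => h (congrFun h0 ⟨i, hi⟩))
        linarith [hnn a]
    · rw [Polynomial.coeff_eq_zero_of_natDegree_lt (by omega), Polynomial.coeff_zero]
  all_goals intro F G
  all_goals
    have hl : ∀ (i j : ℕ), β (ν.map (Int.castRingHom ℂ) * monomial i 1) (monomial j 1) = 0 ∧
        β (monomial j 1) (ν.map (Int.castRingHom ℂ) * monomial i 1) = 0 := by
      intro i j
      let bl : EndAV.End A →+ ℤ := (b.flip (π ^ j)).comp (AddMonoidHom.mulRight (π ^ i))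
      have hbl : ∀ H : Polynomial ℤ, β (H.map (Int.castRingHom ℂ) * monomial i 1) (monomial j 1) =
            ((b (Polynomial.aeval π H * π ^ i) (π ^ j) : ℤ) : ℂ) ∧
          β (monomial j 1) (H.map (Int.castRingHom ℂ) * monomial i 1) =
            ((b (π ^ j) (Polynomial.aeval π H * π ^ i) : ℤ) : ℂ) := by
        intro H
        induction H using Polynomial.induction_on' with
        | add p q h1 h2 =>
          constructor
          · rw [Polynomial.map_add, add_mul, map_add, LinearMap.add_apply, h1.1, h2.1, map_add, add_mul, map_add,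
              AddMonoidHom.add_apply]
            push_cast; rfl
          · rw [Polynomial.map_add, add_mul, map_add, h1.2, h2.2, map_add, add_mul, map_add]
            push_cast; rfl
        | monomial m z =>
          rw [Polynomial.map_monomial, Polynomial.monomial_mul_monomial, Polynomial.aeval_monomial, mul_one,
            show (monomial (m + i) ((Int.castRingHom ℂ) z)) = (z : ℂ) • monomial (m + i) (1 : ℂ) by
              rw [Polynomial.smul_monomial, smul_eq_mul, mul_one, eq_intCast],
            Subsingleton.elim (algebraMap ℤ (EndAV.End A)) (Int.castRingHom _), eq_intCast, mul_assoc, ← pow_add, ← zsmul_eq_mul]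
          simp only [map_smul, LinearMap.smul_apply, hβ, c, map_zsmul, AddMonoidHom.smul_apply, smul_eq_mul]
          push_cast
          exact ⟨rfl, rfl⟩
      obtain ⟨h1, h2⟩ := hbl ν
      rw [hν0, zero_mul, map_zero, AddMonoidHom.zero_apply, Int.cast_zero] at h1
      rw [hν0, zero_mul, map_zero, Int.cast_zero] at h2
      exact ⟨h1, h2⟩
    have hm : ∀ (i : ℕ) (a : ℂ), monomial i a = a • monomial i (1 : ℂ) := fun i a => by
      rw [Polynomial.smul_monomial, smul_eq_mul, mul_one]
    induction F using Polynomial.induction_on' with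
    | add F₁ F₂ h1 h2 => simp only [mul_add, map_add, LinearMap.add_apply, h1, h2, add_zero]
    | monomial i a =>
      induction G using Polynomial.induction_on' with
      | add G₁ G₂ h1 h2 => simp only [mul_add, map_add, LinearMap.add_apply, h1, h2, add_zero]
      | monomial j e =>
        rw [hm i, hm j]
        simp only [mul_smul_comm, map_smul, LinearMap.smul_apply, (hl i j).1, (hl j i).2, smul_zero]

/-- Roots of a polynomial killing the Frobenius with independent lower powers have absolute value `√q` and are simple. -/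
theorem norm_and_simple (π : EndAV.End A) (hπ : WeilLib.IsPowMap π.toHom.left (Nat.card k))
    {ν : Polynomial ℤ} (hνm : ν.Monic) (hν0 : Polynomial.aeval π ν = 0)
    (hli : LinearIndependent ℤ fun i : Fin ν.natDegree => π ^ (i : ℕ)) :
    (∀ w ∈ (ν.map (Int.castRingHom ℂ)).roots, Complex.normSq w = Nat.card k) ∧
      (ν.map (Int.castRingHom ℂ)).roots.Nodup := by
  classical
  obtain ⟨β, hX, hνl, hνr, hpos⟩ := exists_cform π hπ hν0 hli
  set P := ν.map (Int.castRingHom ℂ) with hP
  have hPm : P.Monic := hνm.map _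
  have hPd : P.natDegree = ν.natDegree := hνm.natDegree_map _
  have hconj : P.map (starRingEnd ℂ) = P := by
    rw [hP, Polynomial.map_map]
    congr 1
    exact Subsingleton.elim _ _
  have hq : (Nat.card k : ℂ) ≠ 0 := Nat.cast_ne_zero.2 Nat.card_pos.ne'
  -- the eigenvector of a root
  have main : ∀ w ∈ P.roots, ∃ R : Polynomial ℂ, (X - C w) * R = P ∧ R.natDegree < ν.natDegree ∧
      β R (R.map (starRingEnd ℂ)) ≠ 0 ∧ Complex.normSq w = Nat.card k := by
    intro w hw
    have hroot : P.IsRoot w := (Polynomial.mem_roots'.1 hw).2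
    obtain ⟨R, hR⟩ := Polynomial.dvd_iff_isRoot.2 hroot
    have hR0 : R ≠ 0 := by rintro rfl; exact hPm.ne_zero (by rw [hR, mul_zero])
    have hd : R.natDegree < ν.natDegree := by
      rw [← hPd, hR, Polynomial.natDegree_mul (X_sub_C_ne_zero w) hR0, natDegree_X_sub_C]
      omega
    have hne := hpos R hR0 hd
    refine ⟨R, hR.symm, hd, hne, ?_⟩
    have h1 : X * R = P * 1 + w • R := by
      rw [mul_one, hR, Polynomial.smul_eq_C_mul]; ring
    have h2 : X * R.map (starRingEnd ℂ) = P * 1 + conj w • R.map (starRingEnd ℂ) := by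
      have := congrArg (Polynomial.map (starRingEnd ℂ)) h1
      rwa [Polynomial.map_mul, Polynomial.map_X, Polynomial.map_add, Polynomial.map_mul, Polynomial.map_one, hconj,
        Polynomial.map_smul] at this
    have h := hX R (R.map (starRingEnd ℂ))
    rw [h1, h2] at h
    simp only [map_add, map_smul, LinearMap.add_apply, LinearMap.smul_apply, hνl, hνr, zero_add, add_zero,
      smul_eq_mul, smul_zero] at h
    have h3 : conj w * w = (Nat.card k : ℂ) := mul_right_cancel₀ hne (by linear_combination h)
    rw [mul_comm, Complex.mul_conj] at h3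
    exact_mod_cast h3
  refine ⟨fun w hw => (main w hw).choose_spec.2.2.2, ?_⟩
  rw [Multiset.nodup_iff_count_le_one]
  intro w
  by_contra hcon
  push Not at hcon
  have hw : w ∈ P.roots := Multiset.count_pos.1 (by omega)
  obtain ⟨R, hR, hd, hne, hnorm⟩ := main w hw
  rw [Polynomial.count_roots] at hcon
  have hR0 : R ≠ 0 := by rintro rfl; exact hPm.ne_zero (by rw [← hR, mul_zero])
  have hRw : R.IsRoot w := by
    rw [← hR, Polynomial.rootMultiplicity_mul (mul_ne_zero (X_sub_C_ne_zero w) hR0),
      Polynomial.rootMultiplicity_X_sub_C_self] at hcon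
    exact (Polynomial.rootMultiplicity_pos hR0).1 (by omega)
  obtain ⟨R₂, hR₂⟩ := Polynomial.dvd_iff_isRoot.2 hRw
  have h1 : X * R₂ = R + w • R₂ := by rw [hR₂, Polynomial.smul_eq_C_mul]; ring
  have h2 : X * R.map (starRingEnd ℂ) = P * 1 + conj w • R.map (starRingEnd ℂ) := by
    have h1' : X * R = P * 1 + w • R := by rw [mul_one, ← hR, Polynomial.smul_eq_C_mul]; ring
    have := congrArg (Polynomial.map (starRingEnd ℂ)) h1'
    rwa [Polynomial.map_mul, Polynomial.map_X, Polynomial.map_add, Polynomial.map_mul, Polynomial.map_one, hconj,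
      Polynomial.map_smul] at this
  have h := hX R₂ (R.map (starRingEnd ℂ))
  rw [h1, h2] at h
  simp only [map_add, map_smul, LinearMap.add_apply, LinearMap.smul_apply, hνl, hνr, zero_add, add_zero,
    smul_eq_mul, smul_zero] at h
  have hww : (conj w) * w = (Nat.card k : ℂ) := by
    rw [mul_comm, Complex.mul_conj, hnorm]; norm_cast
  have h5 : conj w * β R (R.map (starRingEnd ℂ)) = 0 := by
    linear_combination h - β R₂ (R.map (starRingEnd ℂ)) * hww
  rcases mul_eq_zero.1 h5 with h6 | h6
  · exact hq (by rw [← hww, h6, zero_mul])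
  · exact hne h6

/-- The Riemann hypothesis: the roots of the degree polynomial of the Frobenius. -/
theorem norm_root_degPoly (π : EndAV.End A) (hπ : WeilLib.IsPowMap π.toHom.left (Nat.card k)) {g : ℕ}
    (hg : topologicalKrullDim A.left = g) {P : Polynomial ℚ} (hPm : P.Monic) (hPd : P.natDegree = 2 * g)
    (hP : AVCharpoly.IsDegPoly π P) {w : ℂ} (hw : w ∈ (P.map (algebraMap ℚ ℂ)).roots) :
    ‖w‖ = Real.sqrt (Nat.card k) := by
  obtain ⟨ν, hνm, hν0, -, hli⟩ := AVCharpoly.exists_int_minpoly π
  have h : w ∈ (ν.map (Int.castRingHom ℂ)).roots := by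
    rw [Polynomial.mem_roots (hνm.map _).ne_zero, Polynomial.IsRoot, Polynomial.eval_map]
    have := AVCharpoly.aeval_root_eq_zero hg π hPm hPd hP hν0 hw
    rwa [Polynomial.aeval_def, algebraMap_int_eq] at this
  rw [Complex.norm_def, (norm_and_simple π hπ hνm hν0 hli).1 w h]

end Groth.Agent.AVFrobLib
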