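import Groth.Agent.AVFrobLib.RH
import Groth.Agent.AVFrobLib.Exist
import Groth.Agent.AVSubLib.Injective
import Mathlib.LinearAlgebra.Semisimple
import Mathlib.RingTheory.Artinian.Instances
import Mathlib.RingTheory.Polynomial.Radical
import Mathlib.RingTheory.Adjoin.Polynomial.Basic
import Mathlib.RingTheory.PrincipalIdealDomain

/-! Consequences for the Frobenius endomorphism. -/

noncomputable section

set_option linter.style.haveILetI false
set_option linter.unusedSectionVars false
set_option maxHeartbeats 1000000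
set_option synthInstance.maxHeartbeats 200000

universe u v

open CategoryTheory AlgebraicGeometry
open Polynomial
open scoped MonObj

namespace Groth.Agent.AVFrobLib

open Groth.Agent

variable {k : Type u} [Field k] {A : Over (Spec (CommRingCat.of k))}
  [GrpObj A] [IsCommMonObj A] [IsProper A.hom] [GeometricallyIntegral A.hom]

/-- An endomorphism is a root of its degree polynomial. -/
theorem aeval_degPoly_eq_zero (φ : EndAV.End A) {P : Polynomial ℤ}
    (hP : AVCharpoly.IsDegPoly φ (P.map (Int.castRingHom ℚ))) : Polynomial.aeval φ P = 0 := by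
  obtain ⟨l, hp, hl⟩ := AVHomForm.exists_prime_ne_zero (k := k)
  haveI := hp
  obtain ⟨g, hg⟩ := TorsPtsLib.exists_dim A
  obtain ⟨hfree, hfin, -⟩ := AVHomForm.tate_free (AlgebraicClosure k) l hl A hg
  haveI := hfree; haveI := hfin
  have h0 : EndAV.End.tateRep l (Over.mk (Spec.map (CommRingCat.ofHom (algebraMap k (AlgebraicClosure k)))))
      (Polynomial.aeval φ P) = 0 := by
    rw [AVCharpoly.map_aeval_int, ← Polynomial.aeval_map_algebraMap ℤ_[l], algebraMap_int_eq,
      ← AVCharpoly.charpoly_eq_int (AlgebraicClosure k) l hl φ hP]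
    exact LinearMap.aeval_self_charpoly _
  exact EndAV.End.ext (AVSubLib.eq_one_of_tateMap_eq_zero A A l hl (Polynomial.aeval φ P).toHom h0)

section adjoin

variable {R : Type v} [Ring R] [Algebra ℚ R] (x : R)

theorem mem_adjoin_aeval (p : Polynomial ℚ) : Polynomial.aeval x p ∈ Algebra.adjoin ℚ ({x} : Set R) :=
  (Algebra.adjoin_singleton_eq_range_aeval ℚ x).symm ▸ (⟨p, rfl⟩ : _ ∈ (Polynomial.aeval x).range)

/-- The map from the polynomial ring to the algebra generated by one element. -/
def toAdjoin : Polynomial ℚ →ₐ[ℚ] Algebra.adjoin ℚ ({x} : Set R) :=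
  (Polynomial.aeval x).codRestrict _ (mem_adjoin_aeval x)

theorem toAdjoin_surjective : Function.Surjective (toAdjoin x) := by
  rintro ⟨y, hy⟩
  rw [Algebra.adjoin_singleton_eq_range_aeval] at hy
  obtain ⟨p, rfl⟩ := hy
  exact ⟨p, rfl⟩

theorem mem_span_minpoly_iff (p : Polynomial ℚ) :
    p ∈ Ideal.span {minpoly ℚ x} ↔ toAdjoin x p = 0 := by
  rw [Ideal.mem_span_singleton]
  refine Iff.trans (minpoly.dvd_iff) ?_
  exact ⟨fun h => Subtype.ext h, fun h => congrArg Subtype.val h⟩

/-- The algebra generated by one element. -/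
def adjoinEquiv : (Polynomial ℚ ⧸ Ideal.span {minpoly ℚ x}) ≃ₐ[ℚ] Algebra.adjoin ℚ {x} :=
  AlgEquiv.ofBijective (Ideal.Quotient.liftₐ _ (toAdjoin x) fun p hp => (mem_span_minpoly_iff x p).1 hp) (by
    constructor
    · rw [injective_iff_map_eq_zero]
      intro q hq
      obtain ⟨p, rfl⟩ := Ideal.Quotient.mk_surjective q
      exact Ideal.Quotient.eq_zero_iff_mem.2 ((mem_span_minpoly_iff x p).2 hq)
    · intro y
      obtain ⟨p, hp⟩ := toAdjoin_surjective x y
      exact ⟨Ideal.Quotient.mk _ p, hp⟩)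

theorem isField_adjoin_iff (hx : _root_.IsIntegral ℚ x) :
    IsField (Algebra.adjoin ℚ ({x} : Set R)) ↔ Irreducible (minpoly ℚ x) := by
  constructor
  · intro h
    have hf : IsField (Polynomial ℚ ⧸ Ideal.span {minpoly ℚ x}) := (adjoinEquiv x).toMulEquiv.isField h
    haveI : (Ideal.span {minpoly ℚ x}).IsMaximal := Ideal.Quotient.maximal_of_isField _ hf
    exact ((Ideal.span_singleton_prime (minpoly.ne_zero hx)).1 inferInstance).irreducible
  · intro h
    haveI : (Ideal.span {minpoly ℚ x}).IsMaximal := PrincipalIdealRing.isMaximal_of_irreducible h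
    exact (adjoinEquiv x).symm.toMulEquiv.isField (Ideal.Quotient.field _).toIsField

theorem isSemisimpleRing_adjoin (hx : _root_.IsIntegral ℚ x) (hsq : Squarefree (minpoly ℚ x)) :
    IsSemisimpleRing (Algebra.adjoin ℚ ({x} : Set R)) := by
  haveI : Module.Finite ℚ (Polynomial ℚ ⧸ Ideal.span {minpoly ℚ x}) := (minpoly.monic hx).finite_quotient
  haveI : IsArtinianRing (Polynomial ℚ ⧸ Ideal.span {minpoly ℚ x}) := isArtinian_of_tower ℚ inferInstance
  haveI : _root_.IsReduced (Polynomial ℚ ⧸ Ideal.span {minpoly ℚ x}) :=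
    (Ideal.isRadical_iff_quotient_reduced _).1 (isRadical_iff_span_singleton.1 hsq.isRadical)
  haveI : IsSemisimpleRing (Polynomial ℚ ⧸ Ideal.span {minpoly ℚ x}) := IsArtinianRing.isSemisimpleRing_of_isReduced _
  exact (adjoinEquiv x).toRingEquiv.isSemisimpleRing

end adjoin

variable [Finite k]

/-- The integral minimal polynomial of the Frobenius is separable. -/
theorem separable_minpoly (π : EndAV.End A) (hπ : WeilLib.IsPowMap π.toHom.left (Nat.card k))
    {ν : Polynomial ℤ} (hνm : ν.Monic) (hν0 : Polynomial.aeval π ν = 0)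
    (hli : LinearIndependent ℤ fun i : Fin ν.natDegree => π ^ (i : ℕ)) :
    (ν.map (Int.castRingHom ℚ)).Separable := by
  refine (Polynomial.separable_map (algebraMap ℚ ℂ)).1 ?_
  rw [Polynomial.map_map, show (algebraMap ℚ ℂ).comp (Int.castRingHom ℚ) = Int.castRingHom ℂ from
    Subsingleton.elim _ _]
  exact (Polynomial.nodup_roots_iff_of_splits (hνm.map _).ne_zero (IsAlgClosed.splits _)).1
    (norm_and_simple π hπ hνm hν0 hli).2

/-- The point count. -/
theorem card_points_eq_prod (π : EndAV.End A) (hπ : WeilLib.IsPowMap π.toHom.left (Nat.card k)) {g : ℕ}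
    (hg : topologicalKrullDim A.left = g) {P : Polynomial ℚ} (hPm : P.Monic) (hPd : P.natDegree = 2 * g)
    (hP : AVCharpoly.IsDegPoly π P) (k' : Type u) [Field k'] [Algebra k k'] [Finite k'] :
    (Nat.card (Over.mk (Spec.map (CommRingCat.ofHom (algebraMap k k'))) ⟶ A) : ℂ) =
      (((P.map (algebraMap ℚ ℂ)).roots.map fun w => 1 - w ^ Module.finrank k k')).prod := by
  have h := congrArg ((↑) : ℚ → ℂ) (card_points_eq_degQ π hπ k')
  rw [Rat.cast_natCast] at h
  rw [h]
  have e : (1 - π ^ Module.finrank k k' : EndAV.End A) =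
      Polynomial.aeval π (1 - Polynomial.X ^ Module.finrank k k' : Polynomial ℤ) := by
    rw [map_sub, map_one, map_pow, Polynomial.aeval_X]
  rw [e, AVCharpoly.degQ_aeval (L := ℂ) hg π P hPm hPd hP]
  simp

/-- The degree polynomial of the Frobenius is nonnegative on the reals. -/
theorem eval_nonneg (φ : EndAV.End A) {g : ℕ} (hg : topologicalKrullDim A.left = g) {P : Polynomial ℚ}
    (hPm : P.Monic) (hPd : P.natDegree = 2 * g) (hP : AVCharpoly.IsDegPoly φ P) (x : ℝ) :
    0 ≤ (P.map (algebraMap ℚ ℝ)).eval x := by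
  refine Rat.denseRange_cast.induction_on x (isClosed_le continuous_const (Polynomial.continuous _)) fun r => ?_
  rw [show ((r : ℝ)) = algebraMap ℚ ℝ r from rfl, Polynomial.eval_map_apply, eq_ratCast]
  suffices h : 0 ≤ P.eval r by exact_mod_cast h
  have hnn : 0 ≤ AVCharpoly.degQ (Polynomial.aeval φ ((r.den : Polynomial ℤ) * Polynomial.X - (r.num : Polynomial ℤ))).toHom := by
    unfold AVCharpoly.degQ
    split_ifs
    · exact Nat.cast_nonneg _
    · exact le_rfl
  have h := AVCharpoly.degQ_aeval (L := ℂ) hg φ P hPm hPd hP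
    ((r.den : Polynomial ℤ) * Polynomial.X - (r.num : Polynomial ℤ))
  have hcard : Multiset.card (P.map (algebraMap ℚ ℂ)).roots = 2 * g := by
    rw [← (IsAlgClosed.splits _).natDegree_eq_card_roots, Polynomial.natDegree_map, hPd]
  have key : ((AVCharpoly.degQ (Polynomial.aeval φ ((r.den : Polynomial ℤ) * Polynomial.X - (r.num : Polynomial ℤ))).toHom : ℚ) : ℂ) =
      (((r.den : ℚ) ^ (2 * g) * P.eval r : ℚ) : ℂ) := by
    rw [h]
    have hs := (IsAlgClosed.splits (P.map (algebraMap ℚ ℂ))).eq_prod_roots_of_monic (hPm.map _)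
    push_cast
    rw [show ((P.eval r : ℚ) : ℂ) = (P.map (algebraMap ℚ ℂ)).eval (r : ℂ) by
      rw [show ((r : ℂ)) = algebraMap ℚ ℂ r from rfl, Polynomial.eval_map_apply, eq_ratCast]]
    conv_rhs => rw [hs, Polynomial.eval_multiset_prod, Multiset.map_map, ← hcard]
    have hev : ∀ w : ℂ, Polynomial.aeval w ((r.den : Polynomial ℤ) * Polynomial.X - (r.num : Polynomial ℤ)) =
        -((r.den : ℂ) * ((r : ℂ) - w)) := by
      intro w
      rw [map_sub, map_mul, map_natCast, Polynomial.aeval_X, map_intCast, mul_sub]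
      have : (r.den : ℂ) * (r : ℂ) = (r.num : ℂ) := by exact_mod_cast (mul_comm _ _).trans (Rat.mul_den_eq_num r)
      rw [this]; ring
    simp only [hev, ← neg_mul, Multiset.prod_map_mul, Multiset.map_const', Multiset.prod_replicate, hcard]
    rw [pow_mul, neg_sq]
    simp [pow_mul]
  have h2 : AVCharpoly.degQ (Polynomial.aeval φ ((r.den : Polynomial ℤ) * Polynomial.X - (r.num : Polynomial ℤ))).toHom =
      (r.den : ℚ) ^ (2 * g) * P.eval r := by exact_mod_cast key
  rw [h2] at hnn
  exact nonneg_of_mul_nonneg_right hnn (by positivity)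

end Groth.Agent.AVFrobLib
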