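import Groth.Agent.AVFrobLib.PthPower
import Groth.Agent.AVFrobLib.Rosati
import Groth.Agent.AVFrobLib.CardPoints
import Groth.Agent.GrpSchLib.RigidHom
import Groth.Agent.EssDimLib.EquivDescent

/-! The Verschiebung of an abelian variety over a finite field. -/

noncomputable section

universe u

set_option linter.style.haveILetI false
set_option linter.unusedSectionVars false
set_option backward.isDefEq.respectTransparency false
set_option backward.isDefEq.respectTransparency.types false
set_option maxHeartbeats 1000000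

open CategoryTheory CategoryTheory.Limits MonoidalCategory CartesianMonoidalCategory AlgebraicGeometry
open scoped MonObj

namespace Groth.Agent.AVFrobLib

open Groth.Agent

variable {k : Type u} [Field k] [Finite k] {X : Over (Spec (CommRingCat.of k))}
  [GrpObj X] [IsCommMonObj X] [IsProper X.hom] [GeometricallyIntegral X.hom]

theorem isCommMonObj_of_mono {N : Over (Spec (CommRingCat.of k))} [GrpObj N] (i : N ⟶ X) [IsMonHom i] [Mono i] :
    IsCommMonObj N where
  mul_comm := by
    rw [← cancel_mono i, Category.assoc, IsMonHom.mul_hom, ← BraidedCategory.braiding_naturality_assoc,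
      IsCommMonObj.mul_comm]

/-- The kernel of the `q`-Frobenius is killed by `q`. -/
theorem exists_comp_eq_pow (π : X ⟶ X) [IsMonHom π] (hπ : WeilLib.IsPowMap π.left (Nat.card k)) :
    ∃ (v : X ⟶ X) (_ : IsMonHom v), π ≫ v = 𝟙 X ^ Nat.card k ∧ v ≫ π = 𝟙 X ^ Nat.card k := by
  haveI := Fintype.ofFinite k
  obtain ⟨p, hp⟩ := CharP.exists k
  obtain ⟨e, hprime, he⟩ := FiniteField.card k p
  haveI : Fact p.Prime := ⟨hprime⟩
  haveI : CharP k p := hp
  haveI : CharP (CommRingCat.of k) p := hp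
  haveI : ∀ Y : Over (Spec (CommRingCat.of k)), FrobSch.IsCharP Y.left p := fun Y => FrobSch.IsCharP.of_hom Y.hom p
  have hq : Nat.card k = p ^ (e : ℕ) := by rw [Nat.card_eq_fintype_card, he]
  rw [hq] at hπ ⊢
  obtain ⟨g, hg⟩ := TorsPtsLib.exists_dim X
  haveI : Surjective π.left := ⟨fun x => ⟨x, hπ.base x⟩⟩
  obtain ⟨hfin, hflat, hlfp⟩ := AVDegPoly.isFinite_of_surjective hg hg π
  haveI := hfin
  haveI := hflat
  obtain ⟨N, _, i, _, hcl, -, hk⟩ := GrpSchLib.exists_kernel π
  haveI := hcl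
  haveI : Mono i := Over.mono_of_mono_left i
  haveI : IsCommMonObj N := isCommMonObj_of_mono i
  have hsq : IsPullback i.left N.hom π.left η[X].left := IsPullback.map (Over.forget _) hk
  haveI : IsFinite N.hom := MorphismProperty.of_isPullback (P := @IsFinite) hsq inferInstance
  haveI : IsAffine N.left := isAffine_of_isAffineHom N.hom
  let B := Γ(N.left, ⊤)
  let φ : CommRingCat.of k ⟶ B := (Scheme.ΓSpecIso (CommRingCat.of k)).inv ≫ N.hom.appTop
  letI : Algebra k B := φ.hom.toAlgebra
  have hφ : Spec.map φ = N.left.isoSpec.inv ≫ N.hom := by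
    rw [Iso.eq_inv_comp, Spec.map_comp, Scheme.isoSpec_hom, ← Scheme.toSpecΓ_naturality_assoc,
      ← Scheme.isoSpec_hom, Scheme.isoSpec_Spec_hom, ← Spec.map_comp, Iso.inv_hom_id, Spec.map_id, Category.comp_id]
  haveI : Module.Finite k B := by
    have h1 : IsFinite (Spec.map φ) := by rw [hφ]; infer_instance
    rw [IsFinite.SpecMap_iff] at h1
    exact h1
  let x₀ : Ys (k := k) B ≅ N := Over.isoMk N.left.isoSpec.symm (by rw [Iso.symm_hom, ← hφ]; rfl)
  have hid : frobIter p (Spec (CommRingCat.of k)) e = 𝟙 _ := by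
    rw [frobIter_spec, ← Spec.map_id]
    congr 1
    ext x
    show iterateFrobenius k p e x = x
    rw [iterateFrobenius_def, ← he, FiniteField.pow_card]
  let F : N ⟶ N := Over.homMk (frobIter p N.left e) (by rw [frobIter_comp, hid, Category.comp_id])
  have hF : F = 1 := by
    rw [← cancel_mono i, MonObj.one_comp]
    have h1 : F ≫ i = i ≫ π := Over.OverMorphism.ext (by
      show frobIter p N.left e ≫ i.left = i.left ≫ π.left
      rw [frobIter_comp, isPowMap_eq hπ (isPowMap_frobIter p X.left e)])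
    rw [h1, hk.w]
    rfl
  have hconst : ∀ a : B, ∃ r : k, algebraMap k B r = a ^ p ^ (e : ℕ) := fun a => by
    have h2 : frobIter p N.left e = N.hom ≫ η[N].left := congrArg CommaMorphism.left hF
    have hP := isPowMap_frobIter p N.left (e : ℕ)
    have h3 := hP.app ⊤ le_top a
    rw [Scheme.Hom.appLE] at h3
    have h4 : (frobIter p N.left e).appTop a = a ^ p ^ (e : ℕ) := by
      refine Eq.trans ?_ h3
      show _ = (N.left.presheaf.map (homOfLE _).op).hom _
      exact (congrArg (fun m => m.hom ((frobIter p N.left e).appTop a)) (N.left.presheaf.map_id (Opposite.op ⊤))).symm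
    refine ⟨(Scheme.ΓSpecIso (CommRingCat.of k)).hom.hom (η[N].left.appTop a), ?_⟩
    rw [← h4, h2, Scheme.Hom.comp_appTop]
    show φ.hom _ = _
    simp only [φ, CommRingCat.hom_comp, RingHom.comp_apply, Iso.hom_inv_id_apply]
    rfl
  have hN : (𝟙 N : N ⟶ N) ^ p ^ (e : ℕ) = 1 := pow_eq_one_of_powers_const x₀ (e : ℕ) hconst
  have hfqs : EssDimLib.fqs π.left := ⟨⟨hflat, inferInstanceAs (QuasiCompact π.left)⟩, inferInstanceAs (Surjective π.left)⟩
  obtain ⟨v, hv⟩ := EssDimLib.exists_desc_over π hfqs ((𝟙 X : X ⟶ X) ^ p ^ (e : ℕ)) fun {Z} g₁ g₂ h => by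
    rw [MonObj.comp_pow, MonObj.comp_pow, Category.comp_id, Category.comp_id]
    have hd : (g₁ * g₂⁻¹) ≫ π = toUnit Z ≫ η[X] := by
      rw [MonObj.mul_comp, GrpObj.inv_comp, h, mul_inv_cancel]; rfl
    have h5 : (g₁ * g₂⁻¹) ^ p ^ (e : ℕ) = 1 := by
      rw [← hk.lift_fst (g₁ * g₂⁻¹) (toUnit Z) hd, ← MonObj.pow_comp,
        show (hk.lift (g₁ * g₂⁻¹) (toUnit Z) hd) ^ p ^ (e : ℕ) =
          hk.lift (g₁ * g₂⁻¹) (toUnit Z) hd ≫ (𝟙 N : N ⟶ N) ^ p ^ (e : ℕ) by rw [MonObj.comp_pow, Category.comp_id],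
        hN, MonObj.comp_one, MonObj.one_comp]
    rw [mul_pow, inv_pow, mul_inv_eq_one] at h5
    exact h5
  haveI := EssDimLib.epi_of_fqs hfqs
  have h1 : η[X] ≫ v = η[X] := by
    conv_lhs => rw [show η[X] = η[X] ≫ π from (IsMonHom.one_hom π).symm, Category.assoc, hv, MonObj.comp_pow,
      Category.comp_id, MonObj.one_eq_one, one_pow]
    rw [MonObj.one_eq_one]
  haveI : IsMonHom v := GrpSchLib.RigidHom.isMonHom_of_one v (h1.trans (MonObj.one_eq_one _))
  refine ⟨v, inferInstance, hv, ?_⟩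
  rw [← cancel_epi π, ← Category.assoc, hv, MonObj.pow_comp, MonObj.comp_pow, Category.comp_id, Category.id_comp]

end Groth.Agent.AVFrobLib
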