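import Groth.Agent.AVFrobLib.Data
import Groth.Agent.WeilLib.ExpSeries
import Groth.Agent.ZetaLib.ZetaProduct
import Mathlib.FieldTheory.Finite.Extension

/-! The zeta function of an abelian variety over a finite field. -/

noncomputable section

set_option linter.style.haveILetI false
set_option linter.unusedSectionVars false
set_option maxHeartbeats 1000000
set_option synthInstance.maxHeartbeats 200000

universe u v

open CategoryTheory AlgebraicGeometry
open Polynomial
open scoped MonObj
open Groth.Agent.WeilLib (HasLogDeriv)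

namespace Groth.Agent.AVFrobLib

open Groth.Agent

/-- The linear series of one reciprocal root. -/
theorem hasLogDeriv_linear (c : ℂ) :
    HasLogDeriv (((1 : Polynomial ℂ) - Polynomial.C c * Polynomial.X : Polynomial ℂ) : PowerSeries ℂ)
      (-PowerSeries.mk fun m => c ^ (m + 1)) := by
  have h := WeilLib.hasLogDeriv_charpolyRev (Matrix.of fun _ _ : Fin 1 => c)
  have e1 : (Matrix.of fun _ _ : Fin 1 => c).charpolyRev = (1 : Polynomial ℂ) - Polynomial.C c * Polynomial.X := by
    rw [Matrix.charpolyRev, Matrix.det_fin_one]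
    simp only [Matrix.sub_apply, Matrix.one_apply_eq, Matrix.smul_apply, Matrix.map_apply, Matrix.of_apply, smul_eq_mul]
    rw [Polynomial.X_mul_C]
  have e2 : ∀ n : ℕ, Matrix.trace ((Matrix.of fun _ _ : Fin 1 => c) ^ n) = c ^ n := by
    intro n
    have : ((Matrix.of fun _ _ : Fin 1 => c) : Matrix (Fin 1) (Fin 1) ℂ) = Matrix.diagonal fun _ => c := by
      ext i j; simp [Subsingleton.elim i j]
    rw [this, Matrix.diagonal_pow, Matrix.trace_diagonal]
    simp
  rw [e1] at h
  simpa only [e2] using h

/-- The product of linear series. -/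
def lprod (m : Multiset ℂ) : Polynomial ℂ := (m.map fun c => (1 : Polynomial ℂ) - Polynomial.C c * Polynomial.X).prod

theorem hasLogDeriv_lprod (m : Multiset ℂ) :
    HasLogDeriv ((lprod m : Polynomial ℂ) : PowerSeries ℂ)
      (-PowerSeries.mk fun n => (m.map fun c => c ^ (n + 1)).sum) := by
  induction m using Multiset.induction with
  | empty =>
    simp only [lprod, Multiset.map_zero, Multiset.prod_zero, Polynomial.coe_one, Multiset.sum_zero]
    have : (-PowerSeries.mk fun _ => (0 : ℂ)) = (0 : PowerSeries ℂ) := by ext n; simp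
    rw [this]; exact WeilLib.HasLogDeriv.one
  | cons a s ih =>
    have e : (-PowerSeries.mk fun n => ((a ::ₘ s).map fun c => c ^ (n + 1)).sum) =
        (-PowerSeries.mk fun m => a ^ (m + 1)) + (-PowerSeries.mk fun n => (s.map fun c => c ^ (n + 1)).sum) := by
      ext n; simp [add_comm]
    rw [e, lprod, Multiset.map_cons, Multiset.prod_cons, Polynomial.coe_mul]
    exact (hasLogDeriv_linear a).mul ih

theorem coeff_zero_lprod (m : Multiset ℂ) : (lprod m).coeff 0 = 1 := by
  induction m using Multiset.induction with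
  | empty => simp [lprod]
  | cons a s ih => rw [lprod, Multiset.map_cons, Multiset.prod_cons, Polynomial.mul_coeff_zero,
      show (s.map fun c => (1 : Polynomial ℂ) - Polynomial.C c * Polynomial.X).prod = lprod s from rfl, ih]; simp

/-- A product of `1 - c` expands along the sub-multisets. -/
theorem prod_one_sub (s : Multiset ℂ) :
    (s.map fun c => 1 - c).prod =
      ∑ j ∈ Finset.range (Multiset.card s + 1), (-1 : ℂ) ^ j * s.esymm j := by
  have h := Polynomial.eval_multiset_prod ((s.map fun c => X + C c)) (-1 : ℂ)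
  rw [Multiset.map_map] at h
  have e : (s.map ((Polynomial.eval (-1 : ℂ)) ∘ fun c => X + C c)) = (s.map fun c => -(1 - c)) := by
    refine Multiset.map_congr rfl fun c _ => ?_
    simp only [Function.comp_apply, Polynomial.eval_add, Polynomial.eval_X, Polynomial.eval_C]
    ring
  rw [e, Multiset.prod_X_add_C_eq_sum_esymm, Polynomial.eval_finset_sum] at h
  have h2 : (s.map fun c => -(1 - c)).prod = (-1 : ℂ) ^ Multiset.card s * (s.map fun c => 1 - c).prod := by
    simp only [← neg_one_mul (1 - _ : ℂ), Multiset.prod_map_mul, Multiset.map_const', Multiset.prod_replicate]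
  rw [h2] at h
  have h3 : ((-1 : ℂ) ^ Multiset.card s) * ((-1 : ℂ) ^ Multiset.card s) = 1 := by
    rw [← mul_pow, neg_one_mul, neg_neg, one_pow]
  calc (s.map fun c => 1 - c).prod
      = (-1 : ℂ) ^ Multiset.card s * ((-1 : ℂ) ^ Multiset.card s * (s.map fun c => 1 - c).prod) := by
        rw [← mul_assoc, h3, one_mul]
    _ = _ := by
      rw [← h, Finset.mul_sum]
      refine Finset.sum_congr rfl fun j hj => ?_
      rw [Polynomial.eval_mul, Polynomial.eval_C, Polynomial.eval_pow, Polynomial.eval_X]
      have hle : j ≤ Multiset.card s := Nat.lt_succ_iff.1 (Finset.mem_range.1 hj)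
      obtain ⟨t, ht⟩ := Nat.exists_eq_add_of_le hle
      rw [ht, Nat.add_sub_cancel_left, pow_add]
      have : ((-1 : ℂ) ^ t) * ((-1 : ℂ) ^ t) = 1 := by rw [← mul_pow, neg_one_mul, neg_neg, one_pow]
      linear_combination ((-1 : ℂ) ^ j * s.esymm j) * this

/-- The multiset of products of `j` roots. -/
def prods (s : Multiset ℂ) (j : ℕ) : Multiset ℂ := (s.powersetCard j).map Multiset.prod

theorem esymm_map_pow (s : Multiset ℂ) (j n : ℕ) :
    (s.map fun c => c ^ n).esymm j = ((prods s j).map fun c => c ^ n).sum := by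
  rw [Multiset.esymm, prods, Multiset.powersetCard_map, Multiset.map_map, Multiset.map_map]
  refine congrArg Multiset.sum (Multiset.map_congr rfl fun t _ => ?_)
  simp [Multiset.prod_map_pow]

variable {k : Type u} [Field k] [Finite k] {A : Over (Spec (CommRingCat.of k))}
  [GrpObj A] [IsCommMonObj A] [IsProper A.hom] [GeometricallyIntegral A.hom]

theorem exists_int_lprod (π : EndAV.End A) {g : ℕ} (hg : topologicalKrullDim A.left = g) {P : Polynomial ℤ}
    (hPm : P.Monic) (hPd : P.natDegree = 2 * g) (hP : AVCharpoly.IsDegPoly π (P.map (Int.castRingHom ℚ))) (j : ℕ) :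
    ∃ Q : Polynomial ℤ, Q.map (Int.castRingHom ℂ) = lprod (prods (P.map (Int.castRingHom ℂ)).roots j) := by
  set s := (P.map (Int.castRingHom ℂ)).roots with hs
  have hcard : Multiset.card s = 2 * g := by
    rw [hs, ← (IsAlgClosed.splits _).natDegree_eq_card_roots, hPm.natDegree_map, hPd]
  have hint : ∀ w ∈ s, IsIntegral ℤ w := fun w hw =>
    ⟨P, hPm, by
      rw [Polynomial.mem_roots (hPm.map _).ne_zero, Polynomial.IsRoot, Polynomial.eval_map] at hw
      rwa [Subsingleton.elim (algebraMap ℤ ℂ) (Int.castRingHom ℂ)]⟩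
  have hsum : ∀ n : ℕ, ∃ r : ℚ, ((prods s j).map fun c => c ^ n).sum = (r : ℂ) := by
    intro n
    rw [← esymm_map_pow]
    by_cases hj : j ≤ 2 * g
    · obtain ⟨Q, hQm, hQd, hQ⟩ := AVCharpoly.exists_int_isDegPoly hg (Polynomial.aeval π ((X : Polynomial ℤ) ^ n))
      have hr := AVCharpoly.roots_degPoly_aeval (L := ℂ) hg π ((X : Polynomial ℤ) ^ n) (hPm.map _)
        (by rw [hPm.natDegree_map, hPd]) hP hQ
      rw [map_ratMap, map_ratMap, ← hs] at hr
      simp only [Polynomial.aeval_X_pow] at hr
      rw [← hr]
      have hfact := (IsAlgClosed.splits (Q.map (Int.castRingHom ℂ))).eq_prod_roots_of_monic (hQm.map _)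
      have hc : Multiset.card (Q.map (Int.castRingHom ℂ)).roots = 2 * g := by
        rw [← (IsAlgClosed.splits _).natDegree_eq_card_roots, hQm.natDegree_map, hQd]
      have hcoef := Multiset.prod_X_sub_C_coeff (Q.map (Int.castRingHom ℂ)).roots (k := 2 * g - j) (by omega)
      rw [← hfact, hc, Nat.sub_sub_self hj, Polynomial.coeff_map, eq_intCast] at hcoef
      refine ⟨(-1) ^ j * (Q.coeff (2 * g - j) : ℚ), ?_⟩
      push_cast
      rw [hcoef, ← mul_assoc, ← mul_pow, neg_one_mul, neg_neg, one_pow, one_mul]
    · refine ⟨0, ?_⟩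
      rw [Multiset.esymm, Multiset.powersetCard_eq_empty _ (by rw [Multiset.card_map, hcard]; omega)]
      simp
  choose r hr using hsum
  let L : PowerSeries ℚ := PowerSeries.mk fun m => -(r m) / (m : ℚ)
  let F : PowerSeries ℚ := PowerSeries.subst L (PowerSeries.exp ℚ)
  have hF : HasLogDeriv (PowerSeries.map (algebraMap ℚ ℂ) F)
      (-PowerSeries.mk fun n => ((prods s j).map fun c => c ^ (n + 1)).sum) := by
    have h := WeilLib.hasLogDeriv_exp_subst (L := L) (WeilLib.constantCoeff_mk_div _)
    rw [WeilLib.derivative_mk_div] at h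
    rw [show (-PowerSeries.mk fun n => ((prods s j).map fun c => c ^ (n + 1)).sum) =
        PowerSeries.map (algebraMap ℚ ℂ) (PowerSeries.mk fun m => -(r (m + 1))) by
      ext n
      simp only [map_neg, PowerSeries.coeff_map, PowerSeries.coeff_mk, eq_ratCast, hr]]
    exact h.map (algebraMap ℚ ℂ)
  have hF0 : PowerSeries.constantCoeff (PowerSeries.map (algebraMap ℚ ℂ) F) = 1 := by
    rw [← PowerSeries.coeff_zero_eq_constantCoeff_apply, PowerSeries.coeff_map,
      PowerSeries.coeff_zero_eq_constantCoeff_apply]
    exact (congrArg (algebraMap ℚ ℂ) (WeilLib.constantCoeff_exp_subst (L := L) (WeilLib.constantCoeff_mk_div _))).trans (map_one _)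
  have heq : PowerSeries.map (algebraMap ℚ ℂ) F = ((lprod (prods s j) : Polynomial ℂ) : PowerSeries ℂ) :=
    hF.unique (hasLogDeriv_lprod _) (by rw [hF0, Polynomial.constantCoeff_coe, coeff_zero_lprod])
  have hlift : lprod (prods s j) ∈ Polynomial.lifts (Int.castRingHom ℂ) := by
    rw [Polynomial.lifts_iff_coeff_lifts]
    intro i
    have hi : IsIntegral ℤ ((lprod (prods s j)).coeff i) := by
      let R := integralClosure ℤ ℂ
      have hmem : ∀ c ∈ prods s j, IsIntegral ℤ c := fun c hc => by
        obtain ⟨t, ht, rfl⟩ := Multiset.mem_map.1 hc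
        exact IsIntegral.multiset_prod fun y hy => hint y (Multiset.mem_of_le (Multiset.mem_powersetCard.1 ht).1 hy)
      let t : Multiset R := (prods s j).attach.map fun w => ⟨w.1, hmem w.1 w.2⟩
      have e : ((t.map fun c => (1 : Polynomial R) - Polynomial.C c * Polynomial.X).prod).map (algebraMap R ℂ) =
          lprod (prods s j) := by
        rw [Polynomial.map_multiset_prod, Multiset.map_map, Multiset.map_map, lprod]
        conv_rhs => rw [← Multiset.attach_map_val (prods s j), Multiset.map_map]
        refine congrArg Multiset.prod (Multiset.map_congr rfl fun w _ => ?_)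
        simp
      rw [← e, Polynomial.coeff_map]
      exact ((t.map fun c => (1 : Polynomial R) - Polynomial.C c * Polynomial.X).prod.coeff i).2
    have hq : (lprod (prods s j)).coeff i = algebraMap ℚ ℂ (PowerSeries.coeff i F) := by
      rw [← PowerSeries.coeff_map, heq, Polynomial.coeff_coe]
    rw [hq] at hi ⊢
    obtain ⟨z, hz⟩ := IsIntegrallyClosed.isIntegral_iff.1
      ((isIntegral_algebraMap_iff (algebraMap ℚ ℂ).injective).1 hi)
    exact ⟨z, by rw [← hz]; simp⟩
  exact hlift

/-- The zeta function as an alternating product. -/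
theorem zetaFun_identity (π : EndAV.End A) (hπ : WeilLib.IsPowMap π.toHom.left (Nat.card k)) {g : ℕ}
    (hg : topologicalKrullDim A.left = g) {P : Polynomial ℤ} (hPm : P.Monic) (hPd : P.natDegree = 2 * g)
    (hP : AVCharpoly.IsDegPoly π (P.map (Int.castRingHom ℚ))) :
    (Zeta.zetaFun A.hom).map (algebraMap ℚ ℂ) *
        ∏ j ∈ (Finset.range (P.natDegree + 1)).filter (fun j => Even j),
          ((lprod (prods (P.map (Int.castRingHom ℂ)).roots j) : Polynomial ℂ) : PowerSeries ℂ) =
      ∏ j ∈ (Finset.range (P.natDegree + 1)).filter (fun j => Odd j),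
          ((lprod (prods (P.map (Int.castRingHom ℂ)).roots j) : Polynomial ℂ) : PowerSeries ℂ) := by
  classical
  set s := (P.map (Int.castRingHom ℂ)).roots with hs
  have hcard : Multiset.card s = P.natDegree := by
    rw [hs, ← (IsAlgClosed.splits _).natDegree_eq_card_roots, hPm.natDegree_map]
  set D : ℕ → PowerSeries ℂ := fun j => -PowerSeries.mk fun n => ((prods s j).map fun c => c ^ (n + 1)).sum with hD
  have hZ : HasLogDeriv (Zeta.zetaFun A.hom) (PowerSeries.mk fun m => (Zeta.nPts A.hom (m + 1) : ℚ)) :=
    ZetaLib.hasLogDeriv_zetaFun A.hom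
  have hpts : ∀ n : ℕ, 0 < n → (Zeta.nPts A.hom n : ℂ) =
      ∑ j ∈ Finset.range (P.natDegree + 1), (-1 : ℂ) ^ j * ((prods s j).map fun c => c ^ n).sum := by
    intro n hn
    haveI : NeZero n := ⟨hn.ne'⟩
    obtain ⟨p, hp⟩ := CharP.exists k
    haveI : Fact p.Prime := ⟨CharP.char_is_prime k p⟩
    let k' := ULift.{u} (FiniteField.Extension k p n)
    letI : Field k' := ULift.field
    have hfin : Module.finrank k k' = n := by
      haveI : Module.Finite k k' := Module.Finite.of_finite
      refine Nat.pow_right_injective (Finite.one_lt_card (α := k)) ?_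
      show Nat.card k ^ Module.finrank k k' = Nat.card k ^ n
      rw [← Module.natCard_eq_pow_finrank, Nat.card_congr Equiv.ulift, FiniteField.natCard_extension]
    have h1 := card_points_eq_prod π hπ hg (hPm.map _) (by rw [hPm.natDegree_map, hPd]) hP k'
    rw [hfin, map_ratMap, ← hs] at h1
    have h2 : Nat.card (Over.mk (Spec.map (CommRingCat.ofHom (algebraMap k k'))) ⟶ A) = Zeta.nPts A.hom n := by
      have h0 := ZetaLib.pointCount_eq_nPts A.hom k'
      rw [hfin] at h0
      rw [← h0]
      exact Nat.card_congr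
        { toFun := fun x => ⟨x.left, Over.w x⟩
          invFun := fun x => Over.homMk x.1 x.2
          left_inv := fun x => rfl
          right_inv := fun x => rfl }
    rw [← h2, h1, ← hcard]
    have h3 := prod_one_sub (s.map fun c => c ^ n)
    rw [Multiset.map_map, Multiset.card_map] at h3
    simp only [esymm_map_pow] at h3
    exact h3
  have hZ' := (hZ.map (algebraMap ℚ ℂ)).mul (WeilLib.HasLogDeriv.prod
    ((Finset.range (P.natDegree + 1)).filter (fun j => Even j)) fun j _ => hasLogDeriv_lprod (prods s j))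
  have hO := WeilLib.HasLogDeriv.prod
    ((Finset.range (P.natDegree + 1)).filter (fun j => Odd j)) fun j _ => hasLogDeriv_lprod (prods s j)
  have hsum : PowerSeries.map (algebraMap ℚ ℂ) (PowerSeries.mk fun m => (Zeta.nPts A.hom (m + 1) : ℚ)) +
      ∑ j ∈ (Finset.range (P.natDegree + 1)).filter (fun j => Even j), D j =
      ∑ j ∈ (Finset.range (P.natDegree + 1)).filter (fun j => Odd j), D j := by
    ext m
    simp only [hD, map_add, map_sum, map_neg, PowerSeries.coeff_map, PowerSeries.coeff_mk, map_natCast,
      hpts (m + 1) m.succ_pos, Finset.sum_neg_distrib]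
    rw [← Finset.sum_filter_add_sum_filter_not (Finset.range (P.natDegree + 1)) (fun j => Even j)]
    simp only [Nat.not_even_iff_odd]
    rw [Finset.sum_congr rfl (g := fun j => ((prods s j).map fun c => c ^ (m + 1)).sum) fun j hj => by
        rw [(Finset.mem_filter.1 hj).2.neg_one_pow, one_mul],
      Finset.sum_congr rfl (s₁ := (Finset.range (P.natDegree + 1)).filter (fun j => Odd j))
        (g := fun j => -((prods s j).map fun c => c ^ (m + 1)).sum) fun j hj => by
        rw [(Finset.mem_filter.1 hj).2.neg_one_pow, neg_one_mul]]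
    rw [Finset.sum_neg_distrib]
    ring
  rw [hsum] at hZ'
  refine hZ'.unique hO ?_
  simp only [map_mul, map_prod, Polynomial.constantCoeff_coe, coeff_zero_lprod, Finset.prod_const_one, mul_one]
  rw [← PowerSeries.coeff_zero_eq_constantCoeff_apply, PowerSeries.coeff_map,
    PowerSeries.coeff_zero_eq_constantCoeff_apply, ZetaLib.constantCoeff_zetaFun, map_one]

end Groth.Agent.AVFrobLib
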